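import Cfsg.Agent.H27.LyRep.Card
import Cfsg.Agent.H34.Ly.Main

/-!
Exact data of the coset action of the presented Lyons group on the cosets of `⟨a, b, c, d⟩`: the
embedding of the matrix group, the orders of the four stabilisers, and the objects of the orbit of
length 19530.
-/

set_option autoImplicit false
set_option maxRecDepth 100000
set_option linter.style.haveILetI false

namespace Cfsg.Agent.H5.LyOut

open Cfsg.Agent.Compute
open Cfsg.Agent.H34.Ly
open Cfsg.Agent.H27

/-- The matrices of `⟨a, b, c, d⟩`. -/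
noncomputable abbrev PY : Subgroup M7 := baseY.imgSub

/-- The element of the presented group with a given matrix. -/
noncomputable def iota : ↥PY →* GY :=
  MonoidHom.mk' (fun m => baseY.Gam (m : M7)) fun a b => by
    show baseY.Gam ((a : M7) * (b : M7)) = _
    exact baseY.Gam_mul a.2 b.2

theorem iota_mem (m : ↥PY) : iota m ∈ LyG2.H4 := baseY.Gam_mem m.2

theorem gl_range {a : ℕ} (ha : a < 8) : glY a ∈ iota.range :=
  ⟨⟨_, (baseY.letter_mem ha).1⟩, (baseY.letter_mem ha).2⟩

theorem range_iota : iota.range = LyG2.H4 := by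
  refine le_antisymm ?_ ?_
  · rintro _ ⟨m, rfl⟩; exact iota_mem m
  · show (Subgroup.closure _).map _ ≤ _
    rw [MonoidHom.map_closure, Subgroup.closure_le]
    rintro _ ⟨x, hx, rfl⟩
    simp only [Set.mem_insert_iff, Set.mem_singleton_iff] at hx
    have h0 := gl_range (a := 0) (by norm_num)
    have h1 := gl_range (a := 1) (by norm_num)
    have h2 := gl_range (a := 2) (by norm_num)
    have h3 := gl_range (a := 3) (by norm_num)
    simp only [glY, fl, evY, psi, FreeGroup.lift_apply_of] at h0 h1 h2 h3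
    rcases hx with rfl | rfl | rfl | rfl
    · exact h0
    · exact h1
    · exact h2
    · exact h3

theorem mem_H4_iff {g : GY} : g ∈ LyG2.H4 ↔ ∃ m, iota m = g := by
  rw [← range_iota]; rfl

theorem card_H4 : Nat.card LyG2.H4 = 5859000000 := LyG2.card_H4 LyRep.of_a_ne_one

theorem card_PY : Nat.card PY = 5859000000 := by
  haveI : Finite ↥PY := inferInstance
  refine le_antisymm baseY.cardImg ?_
  have h := Nat.card_le_card_of_surjective _ iota.rangeRestrict_surjective
  rwa [range_iota, card_H4] at h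

theorem iota_injective : Function.Injective iota := by
  have hb : Function.Bijective iota.rangeRestrict :=
    (Nat.bijective_iff_surjective_and_card _).2
      ⟨iota.rangeRestrict_surjective, by rw [range_iota, card_H4, card_PY]⟩
  exact fun x y h => hb.1 (Subtype.ext h)

/-- Every coset is reached from one of the five representatives. -/
theorem cover_cases (g : GY) :
    ∃ i < 5, ∃ m : ↥PY, ∃ h ∈ LyG2.H4, g = h * gY i * iota m := by
  obtain ⟨i, hi, m, e⟩ := orbC_cover baseY gY rholdY.g0 5 (by norm_num) rdata.uI rholdY.vu.2 zinvY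
    gensY hZY (baseY.cs g)
  change baseY.cs (gY i * baseY.Gam (m : M7)) = baseY.cs g at e
  rw [baseY.cs_iff] at e
  refine ⟨i, hi, m, _, LyG2.H4.inv_mem e, ?_⟩
  show g = (gY i * baseY.Gam (m : M7) * g⁻¹)⁻¹ * gY i * baseY.Gam (m : M7)
  group

/-- The five orbit lengths are exact, hence so are the stabilisers. -/
theorem card_tsub : Nat.card (baseY.Tsub (gY 1)) ≤ 300000 ∧ Nat.card (baseY.Tsub (gY 2)) = 6048 ∧
    Nat.card (baseY.Tsub (gY 3)) = 1008 ∧ Nat.card (baseY.Tsub (gY 4)) = 2880 := by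
  classical
  haveI : Finite (GY ⧸ baseY.H) := index_bound.1
  have hcov := orbC_cover baseY gY rholdY.g0 5 (by norm_num) rdata.uI rholdY.vu.2 zinvY gensY hZY
  have h0 : orbC baseY gY 0 ⊆ {baseY.cs 1} := by
    rintro _ ⟨m, rfl⟩
    show baseY.cs (gY 0 * baseY.Gam (m : M7)) = baseY.cs 1
    rw [rholdY.g0, one_mul]
    exact baseY.cs_of_mem (baseY.Gam_mem m.2)
  have u : (Set.univ : Set (GY ⧸ baseY.H)) = orbC baseY gY 0 ∪ orbC baseY gY 1 ∪ orbC baseY gY 2 ∪
      orbC baseY gY 3 ∪ orbC baseY gY 4 := by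
    refine (Set.eq_univ_of_forall fun y => ?_).symm
    obtain ⟨i, hi, hy⟩ := hcov y
    simp only [Set.mem_union]
    interval_cases i <;> tauto
  have n0 : (orbC baseY gY 0).ncard ≤ 1 :=
    (Set.ncard_le_ncard h0 (Set.finite_singleton _)).trans (Set.ncard_singleton _).le
  have u1 := Set.ncard_union_le (orbC baseY gY 0) (orbC baseY gY 1)
  have u2 := Set.ncard_union_le (orbC baseY gY 0 ∪ orbC baseY gY 1) (orbC baseY gY 2)
  have u3 := Set.ncard_union_le (orbC baseY gY 0 ∪ orbC baseY gY 1 ∪ orbC baseY gY 2)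
    (orbC baseY gY 3)
  have u4 := Set.ncard_union_le
    (orbC baseY gY 0 ∪ orbC baseY gY 1 ∪ orbC baseY gY 2 ∪ orbC baseY gY 3) (orbC baseY gY 4)
  have hidx : Nat.card (GY ⧸ baseY.H) = 8835156 := LyRep.index_H4
  rw [← Set.ncard_univ, u] at hidx
  obtain ⟨-, a1⟩ := card_orbC baseY gY 1 _ le_rfl
  obtain ⟨-, a2⟩ := card_orbC baseY gY 2 _ le_rfl
  obtain ⟨-, a3⟩ := card_orbC baseY gY 3 _ le_rfl
  obtain ⟨-, a4⟩ := card_orbC baseY gY 4 _ le_rfl
  rw [Nat.card_coe_set_eq] at a1 a2 a3 a4
  have t1 := tsub1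
  have t2 := tsub2
  have t3 := tsub3
  have t4 := tsub4
  have bound : ∀ c T n : ℕ, c * T ≤ 5859000000 → n ≤ T → c * n ≤ 5859000000 :=
    fun c T n h1 h2 => (Nat.mul_le_mul_left c h2).trans h1
  have b1 := bound _ _ _ a1 t1
  have b2 := bound _ _ _ a2 t2
  have b3 := bound _ _ _ a3 t3
  have b4 := bound _ _ _ a4 t4
  have e1 : (orbC baseY gY 1).ncard = 19530 := by omega
  have e2 : (orbC baseY gY 2).ncard = 968750 := by omega
  have e3 : (orbC baseY gY 3).ncard = 5812500 := by omega
  have e4 : (orbC baseY gY 4).ncard = 2034375 := by omega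
  rw [e1] at a1; rw [e2] at a2; rw [e3] at a3; rw [e4] at a4
  have cancel : ∀ c T n : ℕ, c * T ≤ 5859000000 → c * n = 5859000000 → 0 < c → T ≤ n :=
    fun c T n h1 h2 h3 => Nat.le_of_mul_le_mul_left (h1.trans h2.ge) h3
  exact ⟨cancel _ _ _ a1 (by norm_num) (by norm_num),
    le_antisymm (cancel _ _ _ a2 (by norm_num) (by norm_num)) t2,
    le_antisymm (cancel _ _ _ a3 (by norm_num) (by norm_num)) t3,
    le_antisymm (cancel _ _ _ a4 (by norm_num) (by norm_num)) t4⟩

theorem tsub1_eq : baseY.Tsub (gY 1) = kerK := by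
  refine (Subgroup.eq_of_le_of_card_ge kerK_le_tsub ?_).symm
  exact card_tsub.1.trans card_kerK

/-- The base object. -/
noncomputable def X0 : Obj := objC objData.pts objData.ob0

theorem kerK_fix {k : M7} (hk : k ∈ kerK) : ac X0 k = X0 := by
  induction hk using Subgroup.closure_induction with
  | mem k hk =>
    obtain ⟨a, ha, rfl⟩ := hk
    obtain ⟨h1, h2⟩ := objY.hfix a ha
    obtain ⟨-, e⟩ := along_sound objY _ _ h1
    show ac X0 (den (wmatL baseY.ml _)) = X0
    rw [X0, ← e, h2]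
  | one => exact ac_one _
  | mul a b _ _ iha ihb => rw [← ac_mul, iha, ihb]
  | inv a _ ih =>
    conv_lhs => rw [← ih, ac_mul, mul_inv_cancel, ac_one]

/-- The orbit of the base object consists of the 19530 codes; its stabiliser is `kerK`. -/
theorem obj_orbit : (∀ m : ↥PY, ∃ x < objData.n,
      ac X0 (m : M7) = objC objData.pts (objData.code x)) ∧
    ∀ m : ↥PY, ac X0 (m : M7) = X0 → (m : M7) ∈ baseY.Tsub (gY 1) := by
  classical
  letI : MulAction ↥PY Obj :=
    { smul := fun k X => ac X ((k : M7))⁻¹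
      one_smul := fun X => by
        show ac X ((1 : ↥PY) : M7)⁻¹ = X
        rw [Subgroup.coe_one, inv_one, ac_one]
      mul_smul := fun a b X => by
        show ac X ((a * b : ↥PY) : M7)⁻¹ = ac (ac X (b : M7)⁻¹) (a : M7)⁻¹
        rw [ac_mul, Subgroup.coe_mul, mul_inv_rev] }
  have hsm : ∀ (k : ↥PY) (X : Obj), k • X = ac X (k : M7)⁻¹ := fun _ _ => rfl
  have hfs := forest_sound objY factsY_ok head1 (O := orb1) (fun a ha => by
      rw [ngens1] at ha
      interval_cases a
      exacts [otab_ok1_0, otab_ok1_1, otab_ok1_2, otab_ok1_3, otab_ok1_4, otab_ok1_5, otab_ok1_6])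
    ((allN_iff _ _).1 forest_ok1)
  have hin : ∀ x : Fin objData.n,
      objC objData.pts (objData.code x) ∈ MulAction.orbit (↥PY) X0 := by
    intro x
    obtain ⟨r, hr, σ, hσ, e⟩ := hfs x x.2
    have hh := head1
    simp only [OrbCert.head, Bool.and_eq_true, List.all_eq_true, decide_eq_true_eq] at hh
    obtain ⟨⟨⟨⟨hlt, hed⟩, -⟩, -⟩, -⟩ := hh.1 _ hr
    have hm : (den (cert.fact r.1).h)⁻¹ * σ ∈ PY :=
      PY.mul_mem (PY.inv_mem (holds_edge (factsY_ok _ hlt) hed).1.mem) hσ.1
    refine ⟨⟨_, hm⟩⁻¹, ?_⟩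
    show ac X0 (((⟨_, hm⟩ : ↥PY)⁻¹ : ↥PY) : M7)⁻¹ = _
    rw [Subgroup.coe_inv, inv_inv, e]; rfl
  let F : Fin objData.n → MulAction.orbit (↥PY) X0 := fun x => ⟨_, hin x⟩
  have hFinj : Function.Injective F := fun x y e =>
    Fin.ext (code_inj objY x.2 y.2 (congrArg Subtype.val e))
  set St := MulAction.stabilizer (↥PY) X0
  have hKle : kerK ≤ PY := fun k hk => (kerK_le_tsub hk).1
  have hKSt : kerK.subgroupOf PY ≤ St := by
    intro k hk
    rw [MulAction.mem_stabilizer_iff, hsm]
    exact kerK_fix (kerK.inv_mem hk)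
  have hKc : 300000 ≤ Nat.card (kerK.subgroupOf PY) := by
    rw [Nat.card_congr (Subgroup.subgroupOfEquivOfLe hKle).toEquiv]; exact card_kerK
  have hn := Nat.card_le_card_of_injective F hFinj
  rw [Nat.card_fin] at hn
  have hn0 : 19530 ≤ objData.n := objY.hn0
  have horb : Nat.card (MulAction.orbit (↥PY) X0) * Nat.card St ≤ 5859000000 := by
    rw [← Nat.card_prod,
      ← Nat.card_congr (MulAction.orbitProdStabilizerEquivGroup (↥PY) X0).symm]
    exact baseY.cardImg
  have hSt := Subgroup.card_le_of_le hKSt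
  have horbN : Nat.card (MulAction.orbit (↥PY) X0) = objData.n := by
    refine le_antisymm ?_ hn
    nlinarith
  have hStK : St = kerK.subgroupOf PY := by
    refine (Subgroup.eq_of_le_of_card_ge hKSt ?_).symm
    rw [horbN] at horb
    nlinarith
  constructor
  · intro m
    obtain ⟨x, hx⟩ := (Function.Injective.bijective_of_nat_card_le hFinj
      (by rw [horbN, Nat.card_fin])).2 ⟨m⁻¹ • X0, MulAction.mem_orbit _ _⟩
    refine ⟨x, x.2, ?_⟩
    have e := congrArg Subtype.val hx
    change objC objData.pts (objData.code x) = ac X0 (((m⁻¹ : ↥PY) : M7))⁻¹ at e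
    rw [e, Subgroup.coe_inv, inv_inv]
  · intro m hm
    have h1 : m⁻¹ ∈ St := by
      rw [MulAction.mem_stabilizer_iff, hsm, Subgroup.coe_inv, inv_inv, hm]
    rw [hStK, Subgroup.mem_subgroupOf, Subgroup.coe_inv, kerK.inv_mem_iff] at h1
    exact kerK_le_tsub h1

end Cfsg.Agent.H5.LyOut
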