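import Cfsg.Agent.H5.LyOut.Main

/-!
Conclusion: the outer automorphism group of the presented Lyons group is trivial.
-/

set_option autoImplicit false
set_option maxRecDepth 100000
set_option linter.style.haveILetI false

namespace Cfsg.Agent.H5.LyOut

open Cfsg.Agent.Compute
open Cfsg.Agent.H34.Ly
open Cfsg.Agent.H27

/-- A product of root elements. -/
noncomputable def prodE (idx : List ℕ) (w : List ℕ) : ↥PY :=
  (w.map fun a => xE (idx.getD a 0)).prod

/-- Its matrix. -/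
noncomputable def prodT (idx : List ℕ) (w : List ℕ) : ℕ :=
  List.rec one7 (fun a _ ih => mm (xT (idx.getD a 0)) ih) w

theorem prod_spec (idx : List ℕ) : ∀ w, Ok7 (prodT idx w) ∧ R (prodE idx w) = den (prodT idx w)
  | [] => ⟨ok_one, by simp [prodE, prodT, den_one]⟩
  | a :: t => by
    obtain ⟨t1, t2⟩ := prod_spec idx t
    obtain ⟨r1, r2⟩ := R_mul (R_x (idx.getD a 0)).1 (R_x (idx.getD a 0)).2 t1 t2
    exact ⟨r1, by rw [show prodE idx (a :: t) = xE (idx.getD a 0) * prodE idx t by simp [prodE]]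
                  exact r2⟩

theorem words2_ok : (allN 6 (fun k => Nat.beq (prodT [0, 1] (Data.uR.getD k [])) (xT k) &&
      (Data.uR.getD k []).all (fun a => decide (a < 2))) &&
    allN 4 (fun i => Nat.beq (prodT [0, 1, 6, 7] (Data.genW.getD i [])) (lT i) &&
      (Data.genW.getD i []).all (fun a => decide (a < 4)))) = true := by
  unfold prodT xT mT wmatL mm one7
  decide +kernel

theorem root_mem {k : ℕ} (hk : k < 6) : xE k ∈ U := by
  have h := words2_ok
  simp only [Bool.and_eq_true, allN_iff, Nat.beq_eq, List.all_eq_true, decide_eq_true_eq] at h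
  obtain ⟨e, hw⟩ := h.1 k hk
  rw [← R_injective (((prod_spec [0, 1] (Data.uR.getD k [])).2.trans (congrArg den e)).trans
    (R_x k).2.symm)]
  refine U.list_prod_mem fun x hx => ?_
  obtain ⟨a, ha, rfl⟩ := List.mem_map.1 hx
  rcases (show a = 0 ∨ a = 1 by have := hw a ha; omega) with rfl | rfl
  · exact x0_mem
  · exact x1_mem

theorem ka_mem : xE 8 ∈ D ∧ xE 9 ∈ D := by
  have h := neg_ok
  simp only [Bool.and_eq_true, Nat.beq_eq, Nat.blt_eq, allN_iff] at h
  obtain ⟨⟨⟨⟨⟨⟨⟨⟨⟨⟨⟨⟨⟨⟨⟨⟨-, -⟩, e8⟩, e9⟩, l8⟩, l9⟩, -⟩, -⟩, -⟩, -⟩, -⟩, -⟩, -⟩, -⟩, -⟩, -⟩, -⟩ := h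
  exact ⟨D_mem_iff.2 ⟨_, l8, eq_of_R (R_x 8).2 (R_d _).2 e8⟩,
    D_mem_iff.2 ⟨_, l9, eq_of_R (R_x 9).2 (R_d _).2 e9⟩⟩

theorem indep_15 : indep 1 5 = true ∧ indep 0 3 = true := by
  have h := neg_ok
  simp only [Bool.and_eq_true, Nat.beq_eq, Nat.blt_eq, allN_iff] at h
  obtain ⟨⟨⟨⟨⟨⟨⟨⟨⟨⟨⟨⟨⟨⟨⟨⟨a, b⟩, -⟩, -⟩, -⟩, -⟩, -⟩, -⟩, -⟩, -⟩, -⟩, -⟩, -⟩, -⟩, -⟩, -⟩, -⟩ := h
  exact ⟨a, b⟩

theorem tab_setA : ∀ s ∈ Data.fixAS, tabOK objData.pts objData.npt (xY s) (tabX s) = true :=
  fun s hs => tab_of (by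
    simp only [Data.fixAS, List.mem_cons, List.not_mem_nil, or_false] at hs
    rcases hs with rfl | rfl | rfl <;> simp)

theorem tab_setX : ∀ s ∈ Data.fixXS, tabOK objData.pts objData.npt (xY s) (tabX s) = true :=
  fun s hs => tab_of (by
    simp only [Data.fixXS, List.mem_cons, List.not_mem_nil, or_false] at hs
    rcases hs with rfl | rfl | rfl | rfl <;> simp)

theorem cent_A {g : GY} (h1 : Commute g (iota (xE 1))) (h5 : Commute g (iota (xE 5)))
    (h8 : Commute g (iota (xE 8))) :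
    ∃ i < 5, g = iota (xE 6 ^ i) := by
  have hg := cent_mem (S := Data.fixAS) (L := Data.fixA) (a := 1) (b := 5) (by simp [Data.fixAS])
    (by simp [Data.fixAS]) x1_mem (root_mem (by norm_num)) indep_15.1 tab_setA fixA_list fixA_ents
    (g := g) (fun s hs => by
      simp only [Data.fixAS, List.mem_cons, List.not_mem_nil, or_false] at hs
      rcases hs with rfl | rfl | rfl <;> assumption)
  obtain ⟨n, rfl⟩ := mem_H4_iff.1 hg
  have tr : ∀ {s}, Commute (iota n) (iota (xE s)) → Commute (xE s) n := fun hc =>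
    iota_injective (by rw [map_mul, map_mul, hc.eq])
  obtain ⟨i, hi, rfl⟩ := cent_c (tr h1) (tr h5) (tr h8)
  exact ⟨i, hi, rfl⟩

theorem cent_X {g : GY} (h0 : Commute g (iota (xE 0))) (h3 : Commute g (iota (xE 3)))
    (h4 : Commute g (iota (xE 4))) (h9 : Commute g (iota (xE 9))) :
    ∃ i < 5, g = iota (xE 7 ^ i) := by
  have hg := cent_mem (S := Data.fixXS) (L := Data.fixX) (a := 0) (b := 3) (by simp [Data.fixXS])
    (by simp [Data.fixXS]) x0_mem (root_mem (by norm_num)) indep_15.2 tab_setX fixX_list fixX_ents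
    (g := g) (fun s hs => by
      simp only [Data.fixXS, List.mem_cons, List.not_mem_nil, or_false] at hs
      rcases hs with rfl | rfl | rfl | rfl <;> assumption)
  obtain ⟨n, rfl⟩ := mem_H4_iff.1 hg
  have tr : ∀ {s}, Commute (iota n) (iota (xE s)) → Commute (xE s) n := fun hc =>
    iota_injective (by rw [map_mul, map_mul, hc.eq])
  obtain ⟨i, hi, rfl⟩ := cent_d (tr h0) (tr h3) (tr h4) (tr h9)
  exact ⟨i, hi, rfl⟩

theorem eq_x {s k : ℕ} (h : mm (xT s) (xT k) = mm (xT k) (xT s)) : Commute (xE s) (xE k) :=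
  eq_of_R (R_mul (R_x s).1 (R_x s).2 (R_x k).1 (R_x k).2).2
    (R_mul (R_x k).1 (R_x k).2 (R_x s).1 (R_x s).2).2 h

theorem fix_neg (γ : MulAut GY) (hU : ∀ u ∈ U, γ (iota u) = iota u)
    (hD : ∀ d ∈ D, γ (iota d) = iota d) :
    γ (iota (xE 6)) = iota (xE 6) ∧ γ (iota (xE 7)) = iota (xE 7) := by
  have h := neg_ok
  simp only [Bool.and_eq_true, Nat.beq_eq, Nat.blt_eq, allN_iff, Bool.or_eq_true,
    Bool.not_eq_true'] at h
  obtain ⟨⟨⟨⟨⟨⟨⟨⟨⟨⟨⟨⟨⟨⟨⟨⟨-, -⟩, -⟩, -⟩, -⟩, -⟩, c61⟩, c65⟩, c68⟩, c70⟩, c73⟩, c74⟩, c79⟩, o6⟩, o7⟩, w6⟩, w7⟩ := h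
  obtain ⟨hk8, hk9⟩ := ka_mem
  have img : ∀ {s k : ℕ}, γ (iota (xE s)) = iota (xE s) → mm (xT k) (xT s) = mm (xT s) (xT k) →
      Commute (γ (iota (xE k))) (iota (xE s)) := fun {s k} hs e => by
    have := ((eq_x e).map iota).map γ.toMonoidHom
    change Commute (γ _) (γ _) at this
    rwa [hs] at this
  have step : ∀ {p k i : ℕ}, γ (iota (xE p)) = iota (xE p) → i < 5 →
      γ (iota (xE k)) = iota (xE k ^ i) → pT (mm (xT p) (pT (xT k) 1)) 10 = one7 →
      ((i = 0 ∨ i = 1) ∨ Nat.beq (pT (mm (xT p) (pT (xT k) i)) 10) one7 = false) →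
      γ (iota (xE k)) = iota (xE k) := by
    intro p k i hp hi hk ho hw
    rcases hw with (rfl | rfl) | hw
    · rw [pow_zero, map_one, γ.map_eq_one_iff] at hk
      rw [hk, map_one]
    · rwa [pow_one] at hk
    exfalso
    have pw : ∀ i, R ((xE p * xE k ^ i) ^ 10) = den (pT (mm (xT p) (pT (xT k) i)) 10) ∧
        Ok7 (pT (mm (xT p) (pT (xT k) i)) 10) := fun i => by
      obtain ⟨p1, p2⟩ := R_pow (R_x k).1 (R_x k).2 i
      obtain ⟨q1, q2⟩ := R_mul (R_x p).1 (R_x p).2 p1 p2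
      exact ⟨(R_pow q1 q2 10).2, (R_pow q1 q2 10).1⟩
    have h1 : (xE p * xE k) ^ 10 = 1 := by
      have := (pw 1).1
      rw [pow_one, ho] at this
      exact R_injective (by rw [this, map_one]; exact den_one)
    have h2 := congrArg (fun x => γ (iota x)) h1
    simp only [map_pow, map_mul, map_one, hp, hk] at h2
    rw [← map_pow, ← map_mul, ← map_pow, map_eq_one_iff iota iota_injective] at h2
    have := (pw i).1
    rw [h2, map_one] at this
    rw [den_inj (pw i).2 ok_one (this.symm.trans den_one.symm), Nat.beq_refl] at hw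
    exact Bool.noConfusion hw
  constructor
  · obtain ⟨i, hi, e⟩ := cent_A (g := γ (iota (xE 6))) (img (hU _ x1_mem) c61)
      (img (hU _ (root_mem (by norm_num))) c65) (img (hD _ hk8) c68)
    exact step (hU _ x0_mem) hi e o6 (w6 i hi)
  · obtain ⟨i, hi, e⟩ := cent_X (g := γ (iota (xE 7))) (img (hU _ x0_mem) c70)
      (img (hU _ (root_mem (by norm_num))) c73) (img (hU _ (root_mem (by norm_num))) c74)
      (img (hD _ hk9) c79)
    exact step (hU _ x1_mem) hi e o7 (w7 i hi)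

theorem fix_H (γ : MulAut GY) (hU : ∀ u ∈ U, γ (iota u) = iota u)
    (hD : ∀ d ∈ D, γ (iota d) = iota d) : ∀ m : ↥PY, γ (iota m) = iota m := by
  obtain ⟨h6, h7⟩ := fix_neg γ hU hD
  have hgl : ∀ i < 4, γ (glY i) = glY i := by
    intro i hi
    have h := words2_ok
    simp only [Bool.and_eq_true, allN_iff, Nat.beq_eq, List.all_eq_true, decide_eq_true_eq] at h
    obtain ⟨e, hw⟩ := h.2 i hi
    obtain ⟨l1, l2⟩ := baseY.letter_mem (show i < 8 by omega)
    have he : (⟨_, l1⟩ : ↥PY) = prodE [0, 1, 6, 7] (Data.genW.getD i []) := by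
      refine R_injective ?_
      rw [(prod_spec _ _).2, e, (lT_ok (show i < 8 by omega)).2]
      rfl
    have hfix : γ (iota (prodE [0, 1, 6, 7] (Data.genW.getD i []))) =
        iota (prodE [0, 1, 6, 7] (Data.genW.getD i [])) := by
      have hmem : prodE [0, 1, 6, 7] (Data.genW.getD i []) ∈
          (γ.toMonoidHom.comp iota).eqLocus iota := by
        refine list_prod_mem fun x hx => ?_
        obtain ⟨a, ha, rfl⟩ := List.mem_map.1 hx
        rcases (show a = 0 ∨ a = 1 ∨ a = 2 ∨ a = 3 by have := hw a ha; omega) with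
          rfl | rfl | rfl | rfl
        exacts [hU _ x0_mem, hU _ x1_mem, h6, h7]
      exact hmem
    rw [← he] at hfix
    have eg : iota (⟨_, l1⟩ : ↥PY) = glY i := l2
    rwa [eg] at hfix
  intro m
  have hH : LyG2.H4 ≤ γ.toMonoidHom.eqLocus (MonoidHom.id GY) := by
    show (Subgroup.closure _).map _ ≤ _
    rw [MonoidHom.map_closure, Subgroup.closure_le]
    rintro _ ⟨x, hx, rfl⟩
    simp only [Set.mem_insert_iff, Set.mem_singleton_iff] at hx
    have g0 := hgl 0 (by norm_num)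
    have g1 := hgl 1 (by norm_num)
    have g2 := hgl 2 (by norm_num)
    have g3 := hgl 3 (by norm_num)
    simp only [glY, fl, evY, psi, FreeGroup.lift_apply_of] at g0 g1 g2 g3
    rcases hx with rfl | rfl | rfl | rfl
    · exact g0
    · exact g1
    · exact g2
    · exact g3
  exact hH (iota_mem m)

theorem z_ok : (allN 3 (fun j => (Data.kA.getD j []).all (fun a => decide (a < 16)) &&
      Nat.beq (kinP mlY rdata (Data.kA.getD j [])) (xY (Data.fixAS.getD j 0))) &&
    allN 5 (fun i => Nat.beq i 0 || !(Nat.beq (mm (pT (xT 6) i) (mT (rdata.kin.getD Data.zI [])))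
      (mm (mT (rdata.kin.getD Data.zI [])) (pT (xT 6) i))))) = true := by
  unfold pT xY xT mT kinP wmatL mm one7
  decide +kernel

theorem eq_one_of_fix (γ : MulAut GY) (hU : ∀ u ∈ U, γ (iota u) = iota u)
    (hD : ∀ d ∈ D, γ (iota d) = iota d) : γ = 1 := by
  have hH := fix_H γ hU hD
  have hgam : ∀ {a : ℕ}, baseY.Img a → γ (baseY.gam a) = baseY.gam a := fun {a} ha => by
    rw [baseY.gam_eq_Gam ha]
    exact hH ⟨_, ha.mem⟩
  set g := γ baseY.Z * baseY.Z⁻¹ with hg
  have hkin : ∀ k : List ℕ, Commute g (baseY.gam (kinP baseY.ml rdata k)) := by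
    intro k
    obtain ⟨k1, k2, k3⟩ := kinP_sound rholdY k
    have e := congrArg γ k3
    rw [map_mul, map_mul, hgam k1, hgam k2] at e
    have e3 : baseY.gam (kimgP baseY.ml rdata k) =
        baseY.Z⁻¹ * baseY.gam (kinP baseY.ml rdata k) * baseY.Z := by
      rw [mul_assoc, k3, inv_mul_cancel_left]
    rw [e3] at e
    show g * _ = _ * g
    rw [hg, ← mul_assoc (baseY.gam _), e]
    group
  have h := z_ok
  simp only [Bool.and_eq_true, allN_iff, Nat.beq_eq, Bool.or_eq_true, Bool.not_eq_true'] at h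
  have hx : ∀ j < 3, Commute g (iota (xE (Data.fixAS.getD j 0))) := by
    intro j hj
    obtain ⟨k1, -, -⟩ := kinP_sound rholdY (Data.kA.getD j [])
    have hc := hkin (Data.kA.getD j [])
    rw [baseY.gam_eq_Gam k1] at hc
    have e : iota (xE (Data.fixAS.getD j 0)) =
        baseY.Gam (den (kinP baseY.ml rdata (Data.kA.getD j []))) := by
      show baseY.Gam _ = _
      rw [(xY_ok _).2, ← (h.1 j hj).2]
      rfl
    rw [e]; exact hc
  obtain ⟨i, hi, hgi⟩ := cent_A (g := g) (hx 0 (by norm_num)) (hx 1 (by norm_num))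
    (hx 2 (by norm_num))
  have hZ : γ baseY.Z = baseY.Z := by
    rcases h.2 i hi with rfl | hne
    · rwa [pow_zero, map_one, hg, mul_inv_eq_one] at hgi
    · exfalso
      have hv : vw (rdata.kin.getD Data.zI []) = true := rholdY.vkin _
      have hc := hkin [Data.zI]
      obtain ⟨k1, -, -⟩ := kinP_sound rholdY [Data.zI]
      rw [baseY.gam_eq_Gam k1, hgi] at hc
      obtain ⟨w1, -⟩ := baseY.img_word hv
      have hk : den (kinP baseY.ml rdata [Data.zI]) = den (wmatL mlY (rdata.kin.getD Data.zI [])) := by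
        show den (mm (wmatL mlY _) one7) = _
        rw [den_mm (a := wmatL mlY (rdata.kin.getD Data.zI [])) w1.1 ok_one, den_one, mul_one]
      rw [hk] at hc
      have hc2 : xE 6 ^ i * W (rdata.kin.getD Data.zI []) =
          W (rdata.kin.getD Data.zI []) * xE 6 ^ i := by
        apply iota_injective
        rw [map_mul, map_mul]
        have eW : iota (W (rdata.kin.getD Data.zI [])) =
            baseY.Gam (den (wmatL mlY (rdata.kin.getD Data.zI []))) := by
          show baseY.Gam _ = _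
          rw [W_coe hv]
        rw [eW]
        exact hc.eq
      obtain ⟨p1, p2⟩ := R_pow (R_x 6).1 (R_x 6).2 i
      obtain ⟨a1, a2⟩ := R_mul p1 p2 (R_W hv).1 (R_W hv).2
      obtain ⟨b1, b2⟩ := R_mul (R_W hv).1 (R_W hv).2 p1 p2
      rw [den_inj a1 b1 (by rw [← a2, ← b2, hc2]), Nat.beq_refl] at hne
      exact Bool.noConfusion hne
  have htop : (⊤ : Subgroup GY) ≤ γ.toMonoidHom.eqLocus (MonoidHom.id GY) := by
    rw [← gensY, Subgroup.closure_le]
    rintro x (rfl | ⟨a, ha, rfl⟩)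
    · exact hZ
    · obtain ⟨l1, l2⟩ := baseY.letter_mem ha
      show γ (baseY.gl a) = baseY.gl a
      rw [← l2]
      exact hH ⟨_, l1⟩
  exact MulEquiv.ext fun a => htop (Subgroup.mem_top a)

/-- Every automorphism is inner. -/
theorem inner (α : MulAut GY) : ∃ g, MulAut.conj g = α := by
  obtain ⟨g, hU, hD⟩ := exists_fix α
  refine ⟨g⁻¹, ?_⟩
  rw [map_inv]
  exact inv_eq_of_mul_eq_one_right (eq_one_of_fix _ hU hD)

/-- The outer automorphism group is trivial. -/
theorem card_out : Nat.card (Out GY) = 1 := by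
  rw [Nat.card_eq_one_iff_unique]
  have h : ∀ q : Out GY, q = 1 := by
    intro q
    induction q using QuotientGroup.induction_on with
    | _ α => exact (QuotientGroup.eq_one_iff α).mpr (inner α)
  exact ⟨⟨fun a b => by rw [h a, h b]⟩, ⟨1⟩⟩

end Cfsg.Agent.H5.LyOut
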