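import Cfsg.Agent.H5.LyOut.Model

/-!
The unipotent subgroup of order `5^6`.
-/

set_option autoImplicit false
set_option maxRecDepth 100000
set_option linter.style.haveILetI false

namespace Cfsg.Agent.H5.LyOut

open Cfsg.Agent.Compute
open Cfsg.Agent.H34.Ly

/-- The unipotent subgroup. -/
noncomputable def U : Subgroup ↥PY := Subgroup.closure {xE 0, xE 1}

theorem x0_mem : xE 0 ∈ U := Subgroup.subset_closure (Or.inl rfl)

theorem x1_mem : xE 1 ∈ U := Subgroup.subset_closure (Or.inr rfl)

/-- The packed matrix is lower unitriangular. -/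
noncomputable def lowU (a : ℕ) : Bool :=
  allN 7 fun i => allN 7 fun j =>
    Nat.blt j i || Nat.beq (getP 7 a (i * 7 + j)) (cond (Nat.beq i j) 1 0)

theorem lowU_sound {a : ℕ} (h : lowU a = true) : LowU (toMat 7 7 5 a) := by
  simp only [lowU, allN_iff, Bool.or_eq_true, Nat.blt_eq, Nat.beq_eq] at h
  constructor
  · intro i j hij
    have := (h i i.2 j j.2).resolve_left (by have : (i : ℕ) < j := hij; omega)
    rw [show Nat.beq (i : ℕ) j = false from by
      rw [Bool.eq_false_iff]; intro hb
      exact hij.ne (Fin.ext (Nat.eq_of_beq_eq_true hb)), cond_false] at this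
    simp [toMat, this]
  · intro i
    have := (h i i.2 i i.2).resolve_left (by omega)
    rw [Nat.beq_refl, cond_true] at this
    simp [toMat, this]

theorem gen_low : (lowU (xT 0) && lowU (xT 1)) = true := by
  unfold xT mT wmatL mm one7
  decide +kernel

theorem U_low {u : ↥PY} (hu : u ∈ U) : LowU ((R u : M7) : Mat7) := by
  have hs : U.toSubmonoid = Submonoid.closure ({xE 0, xE 1} : Set ↥PY) :=
    Subgroup.closure_toSubmonoid_of_finite
  rw [← Subgroup.mem_toSubmonoid, hs] at hu
  have h := gen_low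
  simp only [Bool.and_eq_true] at h
  induction hu using Submonoid.closure_induction with
  | mem x hx =>
    rcases hx with rfl | rfl
    · rw [(R_x 0).2, den_coe (R_x 0).1]; exact lowU_sound h.1
    · rw [(R_x 1).2, den_coe (R_x 1).1]; exact lowU_sound h.2
  | one => rw [map_one, Units.val_one]; exact LowU.one
  | mul a b _ _ iha ihb => rw [map_mul, Units.val_mul]; exact iha.mul ihb

theorem U_pow {u : ↥PY} (hu : u ∈ U) : u ^ 25 = 1 := by
  refine R_injective (Units.ext ?_)
  rw [map_pow, map_one, Units.val_pow_eq_pow_val, Units.val_one, (U_low hu).pow25]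

theorem U_pgroup : IsPGroup 5 U :=
  fun u => ⟨2, Subtype.ext (by rw [show (5 : ℕ) ^ 2 = 25 by norm_num]; exact U_pow u.2)⟩

/-- Two root elements generating a group of order at least 25. -/
noncomputable def indep (a b : ℕ) : Bool :=
  Nat.beq (pT (xT a) 5) one7 && !(Nat.beq (xT a) one7) && allN 5 fun i => !(Nat.beq (pT (xT a) i) (xT b))

theorem indep_25 {a b : ℕ} (ha : xE a ∈ U) (hb : xE b ∈ U) (h : indep a b = true) :
    25 ∣ Nat.card (Subgroup.closure ({xE a, xE b} : Set ↥PY)) := by
  haveI : Fact (Nat.Prime 5) := ⟨by norm_num⟩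
  set S := Subgroup.closure ({xE a, xE b} : Set ↥PY)
  have hle : S ≤ U := (Subgroup.closure_le _).2 (by rintro _ (rfl | rfl) <;> assumption)
  obtain ⟨k, hk⟩ := (U_pgroup.to_le hle).exists_card_eq
  simp only [indep, Bool.and_eq_true, Nat.beq_eq, allN_iff, Bool.not_eq_true'] at h
  have hpow := R_pow (R_x a).1 (R_x a).2
  have hne : ∀ i < 5, xE a ^ i ≠ xE b := fun i hi =>
    ne_of_R (hpow i).1 (hpow i).2 (R_x b).1 (R_x b).2 fun e => by
      have := h.2 i hi; rw [e, Nat.beq_refl] at this; exact Bool.noConfusion this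
  have h5 : xE a ^ 5 = 1 :=
    R_injective (by rw [(hpow 5).2, h.1.1, map_one]; exact den_one)
  have hnt : xE a ≠ 1 :=
    ne_of_R (R_x a).1 (R_x a).2 ok_one (by rw [map_one]; exact den_one.symm) fun e => by
      have := h.1.2; rw [e, Nat.beq_refl] at this; exact Bool.noConfusion this
  have hsa : xE a ∈ S := Subgroup.subset_closure (Or.inl rfl)
  have hsb : xE b ∈ S := Subgroup.subset_closure (Or.inr rfl)
  rcases Nat.lt_or_ge k 2 with hk2 | hk2
  · exfalso
    by_cases h1 : xE a = 1
    · exact hnt h1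
    · have hord : orderOf (xE a) = 5 := orderOf_eq_prime h5 h1
      have hz : Subgroup.zpowers (xE a) = S := by
        refine Subgroup.eq_of_le_of_card_ge (Subgroup.zpowers_le.2 hsa) ?_
        rw [Nat.card_zpowers, hord, hk]
        calc 5 ^ k ≤ 5 ^ 1 := Nat.pow_le_pow_right (by norm_num) (by omega)
          _ = 5 := pow_one 5
      have hm : xE b ∈ Subgroup.zpowers (xE a) := hz ▸ hsb
      obtain ⟨n, hn⟩ := mem_powers_iff_mem_zpowers.mpr hm
      refine hne (n % 5) (Nat.mod_lt _ (by norm_num)) ?_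
      rw [show n % 5 = n % orderOf (xE a) by rw [hord], pow_mod_orderOf]
      exact hn
  · rw [hk]
    exact ⟨5 ^ (k - 2), by rw [show (25 : ℕ) = 5 ^ 2 by norm_num, ← pow_add]; congr 1; omega⟩

theorem uK_ok : (Nat.beq Data.uK.length kidxK5.length &&
    allN kidxK5.length fun a => (Data.uK.getD a []).all (fun l => decide (l < 2)) &&
      Nat.beq (List.rec one7 (fun l _ ih => mm (xT l) ih) (Data.uK.getD a []))
        (mT (rdata.kin.getD (kidxK5.getD a 0) []))) = true := by
  unfold xT mT wmatL mm one7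
  decide +kernel

theorem x0_moves : ((objData.along (Data.wX.getD 0 []) objData.ob0).1 &&
    codeOK objData.npt (objData.along (Data.wX.getD 0 []) objData.ob0).2 &&
    !(Nat.beq (objData.along (Data.wX.getD 0 []) objData.ob0).2 objData.ob0)) = true := by
  decide +kernel

theorem sub_n5 : subK5.n = 3125 := rfl

theorem card_U : Nat.card U = 15625 := by
  haveI : Fact (Nat.Prime 5) := ⟨by norm_num⟩
  obtain ⟨k, hk⟩ := U_pgroup.exists_card_eq
  have hdvd : 5 ^ k ∣ 5859000000 := by
    rw [← hk, ← card_PY]; exact Subgroup.card_subgroup_dvd_card U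
  have hk6 : k ≤ 6 := by
    by_contra hlt
    have h7 : 5 ^ 7 ∣ 5859000000 := (pow_dvd_pow 5 (by omega)).trans hdvd
    norm_num at h7
  set Ub : Subgroup M7 := U.map PY.subtype
  set T5 : Subgroup M7 := Subgroup.closure
    {n | ∃ a < kidxK5.length, n = den (wmatL mlY (rdata.kin.getD (kidxK5.getD a 0) []))}
  have hTU : T5 ≤ Ub := by
    refine (Subgroup.closure_le _).2 ?_
    rintro n ⟨a, ha, rfl⟩
    have h := uK_ok
    simp only [Bool.and_eq_true, allN_iff, Nat.beq_eq, List.all_eq_true, decide_eq_true_eq] at h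
    obtain ⟨h1, h2⟩ := h.2 a ha
    have hv : vw (rdata.kin.getD (kidxK5.getD a 0) []) = true := rholdY.vkin _
    set w := Data.uK.getD a []
    have hkey : ∀ t : List ℕ, (∀ l ∈ t, l < 2) →
        Ok7 (List.rec one7 (fun l _ ih => mm (xT l) ih) t) ∧
        ∃ u ∈ U, R u = den (List.rec one7 (fun l _ ih => mm (xT l) ih) t) := by
      intro t
      induction t with
      | nil => exact fun _ => ⟨ok_one, 1, U.one_mem, by rw [map_one]; exact den_one.symm⟩
      | cons l t ih =>
        intro hl
        obtain ⟨i1, u, hu, i2⟩ := ih fun m hm => hl m (List.mem_cons_of_mem _ hm)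
        have hmem : xE l ∈ U := by
          have := hl l List.mem_cons_self
          interval_cases l
          exacts [x0_mem, x1_mem]
        obtain ⟨j1, j2⟩ := R_mul (R_x l).1 (R_x l).2 i1 i2
        exact ⟨j1, _, U.mul_mem hmem hu, j2⟩
    obtain ⟨-, u, hu, e⟩ := hkey w h1
    rw [h2, ← (R_W hv).2] at e
    refine ⟨u, hu, ?_⟩
    rw [R_injective e]
    exact W_coe hv
  have h3125 : 3125 ∣ Nat.card T5 := by
    have h := sub_okK5
    simp only [Bool.and_eq_true, Nat.beq_eq, List.all_eq_true, decide_eq_true_eq] at h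
    rw [← sub_n5]
    refine dvd_of_subOK h.2 sub_atK5 fun a ha => ?_
    have ha' : a < kidxK5.length := by omega
    rw [List.getD_eq_getElem _ _ (by simpa using ha'), List.getElem_map]
    refine ⟨(baseY.img_word (rholdY.vkin kidxK5[a])).1.1, Subgroup.subset_closure ⟨a, ha', ?_⟩⟩
    rw [List.getD_eq_getElem kidxK5 0 ha']
  have hTK : T5 ≤ kerK := by
    refine (Subgroup.closure_le _).2 ?_
    rintro n ⟨a, ha, rfl⟩
    refine Subgroup.subset_closure ⟨_, ?_, rfl⟩
    have h := sub_okK5
    simp only [Bool.and_eq_true, Nat.beq_eq, List.all_eq_true, decide_eq_true_eq] at h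
    rw [List.getD_eq_getElem _ _ ha]
    exact h.1.2 _ (List.getElem_mem ha)
  have hx0 : ((xE 0 : ↥PY) : M7) ∉ T5 := by
    intro hmem
    have h := x0_moves
    simp only [Bool.and_eq_true, Bool.not_eq_true'] at h
    obtain ⟨-, e⟩ := along_sound objY _ _ h.1.1
    have hfix := kerK_fix (hTK hmem)
    rw [X0, xE, W_coe (vX 0)] at hfix
    have := objC_inj objY.hpts h.1.2 objY.hob (e.trans hfix)
    rw [this, Nat.beq_refl] at h
    exact Bool.noConfusion h.2
  have hlt : Nat.card T5 < Nat.card Ub := by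
    refine lt_of_le_of_ne (Subgroup.card_le_of_le hTU) fun e => hx0 ?_
    rw [Subgroup.eq_of_le_of_card_ge hTU e.ge]
    exact ⟨_, x0_mem, rfl⟩
  have hUb : Nat.card Ub = 5 ^ k := by
    rw [← hk]
    exact (Nat.card_congr (Subgroup.equivMapOfInjective U _ PY.subtype_injective).toEquiv).symm
  have h1 : 3125 ≤ Nat.card T5 := Nat.le_of_dvd Nat.card_pos h3125
  have hk5 : 5 < k := (Nat.pow_lt_pow_iff_right (by norm_num : 1 < 5)).1 (by
    rw [← hUb]; exact lt_of_le_of_lt (le_trans (by norm_num) h1) hlt)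
  rw [hk, show k = 6 by omega]
  norm_num

end Cfsg.Agent.H5.LyOut
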