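import Cfsg.Agent.Compute.Chunk
import Cfsg.Agent.H5.LyOut.Unip

/-!
Centralisers of small subgroups of `⟨a, b, c, d⟩` through their fixed cosets.
-/

set_option autoImplicit false
set_option maxRecDepth 100000
set_option linter.style.haveILetI false

namespace Cfsg.Agent.H5.LyOut

open Cfsg.Agent.Compute
open Cfsg.Agent.H34.Ly
open Cfsg.Agent.H27

/-- The matrix of an element in the original basis. -/
noncomputable def xY (s : ℕ) : ℕ := wmatL mlY (Data.wX.getD s [])

/-- The permutation table of an element. -/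
noncomputable def tabX (s : ℕ) : ℕ := Data.tabs.getD s 0

theorem xY_ok (s : ℕ) : Ok7 (xY s) ∧ ((xE s : ↥PY) : M7) = den (xY s) :=
  ⟨(baseY.img_word (vX s)).1.1, W_coe (vX s)⟩

theorem tabs_ok : ([0, 1, 3, 4, 5, 8, 9].all fun s =>
    tabOK objData.pts objData.npt (xY s) (tabX s)) = true := by
  decide +kernel

/-- A point fixed by all the elements of `S`. -/
noncomputable def fixedAt (S : List ℕ) (x : ℕ) : Bool :=
  S.all fun s => Nat.beq (moveCode (tabX s) (objData.code x)) (objData.code x) ||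
    !(codeOK objData.npt (moveCode (tabX s) (objData.code x)))

/-- Completeness of a list of fixed points. -/
noncomputable def fixList (S L : List ℕ) (x : ℕ) : Bool :=
  !(fixedAt S x) || memN x L

/-- An entry: point, conjugator word, inverse word, element, word in the conjugators. -/
abbrev Ent : Type := ℕ × List ℕ × List ℕ × ℕ × List ℕ

theorem fixA_list : allN 19530 (fixList Data.fixAS (Data.fixA.map Prod.fst)) = true :=
  allN_of_chunks 2000 10 (by decide +kernel) (by
    intro k hk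
    interval_cases k <;> decide +kernel)

theorem fixX_list : allN 19530 (fixList Data.fixXS (Data.fixX.map Prod.fst)) = true :=
  allN_of_chunks 2000 10 (by decide +kernel) (by
    intro k hk
    interval_cases k <;> decide +kernel)

theorem fixU_list : allN 19530 (fixList Data.fixUS (Data.fixU.map Prod.fst)) = true :=
  allN_of_chunks 2000 10 (by decide +kernel) (by
    intro k hk
    interval_cases k <;> decide +kernel)

/-- The image of an element under conjugation by `Z μ`. -/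
noncomputable def qP (k : List ℕ) : ℕ :=
  mm (wmatL mlY rdata.uW) (mm (kimgP mlY rdata k) (wmatL mlY rdata.uI))

/-- `(x - 1)² = 0` for a packed matrix. -/
noncomputable def sq0 (a : ℕ) : Bool :=
  allN 49 fun p => Nat.beq (Nat.mod (Nat.add (getP 7 (mm a a) p) (getP 7 one7 p)) 5)
    (Nat.mod (Nat.mul 2 (getP 7 a p)) 5)

/-- The checks on an entry. -/
noncomputable def entOK (S : List ℕ) (E : Ent) : Bool :=
  vw E.2.1 && vw E.2.2.1 && (objData.along E.2.1 objData.ob0).1 &&
    Nat.beq (objData.along E.2.1 objData.ob0).2 (objData.code E.1) &&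
    Nat.beq (mm (wmatL mlY E.2.1) (wmatL mlY E.2.2.1)) one7 &&
    Nat.blt E.2.2.2.1 S.length &&
    Nat.beq (kinP mlY rdata E.2.2.2.2)
      (mm (wmatL mlY E.2.1) (mm (xY (S.getD E.2.2.2.1 0)) (wmatL mlY E.2.2.1))) &&
    xor (sq0 (qP E.2.2.2.2)) (sq0 (xY (S.getD E.2.2.2.1 0)))

theorem fixA_ents : (Data.fixA.all (entOK Data.fixAS)) = true := by
  unfold entOK xY qP sq0 mm one7
  decide +kernel

theorem fixX_ents : (Data.fixX.all (entOK Data.fixXS)) = true := by
  unfold entOK xY qP sq0 mm one7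
  decide +kernel

theorem sq0_iff {a : ℕ} (ha : Ok7 a) :
    sq0 a = true ↔ ((den a : M7) : Mat7) * den a + 1 = (2 : ZMod 5) • ((den a : M7) : Mat7) := by
  have hm : ((den a : M7) : Mat7) * den a = toMat 7 7 5 (mm a a) := by
    rw [← Units.val_mul, ← den_mm ha ha, den_coe (ok_mm ha ha)]
  have h1 : (1 : Mat7) = toMat 7 7 5 one7 := by rw [← den_coe ok_one, den_one]; rfl
  rw [hm, h1, den_coe ha]
  simp only [sq0, allN_iff, Nat.beq_eq, Nat.add_eq, Nat.mul_eq]
  constructor
  · intro h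
    ext i j
    simp only [Matrix.add_apply, Matrix.smul_apply, toMat, smul_eq_mul]
    have e := congrArg (fun n : ℕ => (n : ZMod 5)) (h _ (idx_lt i j))
    simp only [ZMod.natCast_mod, Nat.cast_add, Nat.cast_mul,
      show ∀ n m : ℕ, Nat.mod n m = n % m from fun _ _ => rfl] at e
    exact e
  · intro h p hp
    have e := congrFun (congrFun h ⟨p / 7, by omega⟩) ⟨p % 7, Nat.mod_lt _ (by norm_num)⟩
    simp only [Matrix.add_apply, Matrix.smul_apply, toMat, smul_eq_mul] at e
    rw [show p / 7 * 7 + p % 7 = p by omega, show (2 : ZMod 5) = ((2 : ℕ) : ZMod 5) from rfl,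
      ← Nat.cast_add, ← Nat.cast_mul, ZMod.natCast_eq_natCast_iff'] at e
    exact e

theorem sq_conj {m q : M7} (h : (q : Mat7) * q + 1 = (2 : ZMod 5) • (q : Mat7)) :
    ((m * q * m⁻¹ : M7) : Mat7) * (m * q * m⁻¹ : M7) + 1 =
      (2 : ZMod 5) • ((m * q * m⁻¹ : M7) : Mat7) := by
  have e : ((m * q * m⁻¹ : M7) : Mat7) * (m * q * m⁻¹ : M7) =
      (m : Mat7) * ((q : Mat7) * q) * ((m⁻¹ : M7) : Mat7) := by
    rw [← Units.val_mul, ← Units.val_mul, ← Units.val_mul, ← Units.val_mul]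
    congr 1; group
  rw [e, show (1 : Mat7) = (m : Mat7) * 1 * ((m⁻¹ : M7) : Mat7) by
      rw [mul_one, ← Units.val_mul, mul_inv_cancel, Units.val_one],
    ← Matrix.add_mul, ← Matrix.mul_add, h, Units.val_mul, Units.val_mul]
  simp

theorem sq_conj_iff (m q : M7) :
    ((m * q * m⁻¹ : M7) : Mat7) * (m * q * m⁻¹ : M7) + 1 =
      (2 : ZMod 5) • ((m * q * m⁻¹ : M7) : Mat7) ↔
    (q : Mat7) * q + 1 = (2 : ZMod 5) • (q : Mat7) := by
  refine ⟨fun h => ?_, sq_conj⟩
  have := sq_conj (m := m⁻¹) h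
  rwa [show m⁻¹ * (m * q * m⁻¹) * m⁻¹⁻¹ = q by group] at this

theorem objData_n : objData.n = 19530 := rfl

/-- If `g` conjugates two independent root elements and the rest of `S` into `H`, its coset is the
trivial one or one of the fixed ones. -/
theorem coset_cases {S : List ℕ} {L : List Ent} {a b : ℕ} (ha : a ∈ S) (hb : b ∈ S)
    (haU : xE a ∈ U) (hbU : xE b ∈ U) (hind : indep a b = true)
    (hS : ∀ s ∈ S, tabOK objData.pts objData.npt (xY s) (tabX s) = true)
    (hfix : allN 19530 (fixList S (L.map Prod.fst)) = true) (hent : L.all (entOK S) = true)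
    {g : GY} (hg : ∀ s ∈ S, g * iota (xE s) * g⁻¹ ∈ LyG2.H4) :
    g ∈ LyG2.H4 ∨ ∃ E ∈ L, ∃ h : ↥PY, g = iota h * baseY.Z * iota (W E.2.1) := by
  obtain ⟨i, hi, m, h, hh, rfl⟩ := cover_cases g
  have hconj : ∀ s ∈ S, ((m * xE s * m⁻¹ : ↥PY) : M7) ∈ baseY.Tsub (gY i) := by
    intro s hs
    refine ⟨(m * xE s * m⁻¹ : ↥PY).2, (baseY.cs_iff).2 ?_⟩
    show gY i * iota (m * xE s * m⁻¹) * (gY i)⁻¹ ∈ LyG2.H4
    have := LyG2.H4.mul_mem (LyG2.H4.mul_mem (LyG2.H4.inv_mem hh) (hg s hs)) hh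
    convert this using 1
    rw [map_mul, map_mul, map_inv]
    group
  rcases (show i = 0 ∨ i = 1 ∨ 2 ≤ i by omega) with rfl | rfl | hi2
  · refine Or.inl ?_
    rw [rholdY.g0, mul_one]
    exact LyG2.H4.mul_mem hh (iota_mem m)
  · have hfixobj : ∀ s ∈ S, ac (ac X0 (m : M7)) ((xE s : ↥PY) : M7) = ac X0 (m : M7) := by
      intro s hs
      have h1 := hconj s hs
      rw [tsub1_eq] at h1
      have h2 := kerK_fix h1
      rw [Subgroup.coe_mul, Subgroup.coe_mul, Subgroup.coe_inv] at h2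
      calc ac (ac X0 (m : M7)) ((xE s : ↥PY) : M7)
          = ac (ac X0 ((m : M7) * ((xE s : ↥PY) : M7) * (m : M7)⁻¹)) (m : M7) := by
            rw [ac_mul, ac_mul]; congr 1; group
        _ = ac X0 (m : M7) := by rw [h2]
    obtain ⟨x, hx, ex⟩ := obj_orbit.1 m
    have hcx : codeOK objData.npt (objData.code x) = true := by
      have := objY.hcodes x hx
      simp only [ObjData.codesAt, Bool.and_eq_true] at this
      exact this.1
    have hfx : fixedAt S x = true := by
      rw [fixedAt, List.all_eq_true]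
      intro s hs
      rw [Bool.or_eq_true, Nat.beq_eq, Bool.not_eq_true']
      have h1 := hfixobj s hs
      rw [ex, (xY_ok s).2] at h1
      cases hc : codeOK objData.npt (moveCode (tabX s) (objData.code x))
      · exact Or.inr rfl
      · exact Or.inl (objC_inj objY.hpts hc hcx
          ((objC_move objY.hn objY.hpts (xY_ok s).1 (hS s hs) hcx).symm.trans h1))
    have h2 := (allN_iff _ _).1 hfix x (by have := objData_n; omega)
    rw [fixList, hfx, Bool.not_true, Bool.false_or, memN_iff, List.mem_map] at h2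
    obtain ⟨E, hE, rfl⟩ := h2
    refine Or.inr ⟨E, hE, ?_⟩
    have he := List.all_eq_true.mp hent E hE
    simp only [entOK, Bool.and_eq_true, Nat.beq_eq] at he
    obtain ⟨⟨⟨⟨⟨⟨⟨hv, -⟩, hal⟩, hal2⟩, -⟩, -⟩, -⟩, -⟩ := he
    obtain ⟨-, e⟩ := along_sound objY _ _ hal
    rw [hal2, ← ex] at e
    have hk : ((m * (W E.2.1)⁻¹ : ↥PY) : M7) ∈ baseY.Tsub (gY 1) := by
      refine obj_orbit.2 _ ?_
      rw [Subgroup.coe_mul, Subgroup.coe_inv, ← ac_mul, W_coe hv, X0]
      rw [X0] at e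
      rw [e, ac_mul]
      show ac _ (den (wmatL mlY E.2.1) * (den (wmatL mlY E.2.1))⁻¹) = _
      rw [mul_inv_cancel, ac_one]
    have hk2 : gY 1 * iota (m * (W E.2.1)⁻¹) * (gY 1)⁻¹ ∈ LyG2.H4 := (baseY.cs_iff).1 hk.2
    rw [rholdY.g1] at hk2 ⊢
    obtain ⟨h', eh⟩ := mem_H4_iff.1 (LyG2.H4.mul_mem hh hk2)
    refine ⟨h', ?_⟩
    rw [eh, map_mul, map_inv]
    group
  · exfalso
    have h25 := indep_25 haU hbU hind
    have hsub : (Subgroup.closure ({xE a, xE b} : Set ↥PY)).map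
        (PY.subtype.comp (MulAut.conj m).toMonoidHom) ≤ baseY.Tsub (gY i) := by
      rw [MonoidHom.map_closure, Subgroup.closure_le]
      rintro _ ⟨y, (rfl | rfl), rfl⟩
      · exact hconj a ha
      · exact hconj b hb
    have hdvd := Subgroup.card_dvd_of_le hsub
    rw [← Nat.card_congr (Subgroup.equivMapOfInjective _ (PY.subtype.comp
      (MulAut.conj m).toMonoidHom)
        (PY.subtype_injective.comp (MulAut.conj m).injective)).toEquiv] at hdvd
    have := h25.trans hdvd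
    obtain ⟨-, t2, t3, t4⟩ := card_tsub
    interval_cases i
    · rw [t2] at this; norm_num at this
    · rw [t3] at this; norm_num at this
    · rw [t4] at this; norm_num at this

/-- The exceptional cosets are not centralised. -/
theorem cent_mem {S : List ℕ} {L : List Ent} {a b : ℕ} (ha : a ∈ S) (hb : b ∈ S)
    (haU : xE a ∈ U) (hbU : xE b ∈ U) (hind : indep a b = true)
    (hS : ∀ s ∈ S, tabOK objData.pts objData.npt (xY s) (tabX s) = true)
    (hfix : allN 19530 (fixList S (L.map Prod.fst)) = true) (hent : L.all (entOK S) = true)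
    {g : GY} (hg : ∀ s ∈ S, Commute g (iota (xE s))) : g ∈ LyG2.H4 := by
  have hg' : ∀ s ∈ S, g * iota (xE s) * g⁻¹ = iota (xE s) := fun s hs => by
    rw [(hg s hs).eq, mul_inv_cancel_right]
  rcases coset_cases ha hb haU hbU hind hS hfix hent
    (fun s hs => by rw [hg' s hs]; exact iota_mem _) with h | ⟨E, hE, h, rfl⟩
  · exact h
  exfalso
  have he := List.all_eq_true.mp hent E hE
  simp only [entOK, Bool.and_eq_true, Nat.beq_eq, Nat.blt_eq] at he
  obtain ⟨⟨⟨⟨⟨⟨⟨hv, hvi⟩, -⟩, -⟩, hone⟩, hlt⟩, hk⟩, hx⟩ := he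
  set s := S.getD E.2.2.2.1 0
  have hs : s ∈ S := by
    show S.getD _ 0 ∈ S
    rw [List.getD_eq_getElem _ _ hlt]; exact List.getElem_mem hlt
  obtain ⟨k1, k2, k3⟩ := kinP_sound rholdY E.2.2.2.2
  obtain ⟨u1, u2⟩ := baseY.img_word rholdY.vu.1
  obtain ⟨i1, i2⟩ := baseY.img_word rholdY.vu.2
  obtain ⟨n1, n2⟩ := baseY.img_mm k2 i1
  obtain ⟨q1, q2⟩ := baseY.img_mm u1 n1
  let q : ↥PY := ⟨den (qP E.2.2.2.2), q1.mem⟩
  let kk : ↥PY := ⟨den (kinP mlY rdata E.2.2.2.2), k1.mem⟩
  have hq : baseY.Z * iota kk * baseY.Z⁻¹ = iota q := by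
    show baseY.Z * baseY.Gam (den (kinP baseY.ml rdata E.2.2.2.2)) * baseY.Z⁻¹ = baseY.Gam _
    rw [← baseY.gam_eq_Gam k1]
    show _ = baseY.Gam (den (mm (wmatL baseY.ml rdata.uW)
      (mm (kimgP baseY.ml rdata E.2.2.2.2) (wmatL baseY.ml rdata.uI))))
    rw [← baseY.gam_eq_Gam q1, q2, n2, u2, i2, rholdY.hUI, ← rholdY.hU,
      show baseY.gam (kinP baseY.ml rdata E.2.2.2.2) =
        baseY.Z * baseY.gam (kimgP baseY.ml rdata E.2.2.2.2) * baseY.Z⁻¹ by
          rw [← k3, mul_inv_cancel_right]]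
    group
  have hkk : W E.2.1 * xE s * (W E.2.1)⁻¹ = kk := by
    apply Subtype.ext
    show ((W E.2.1 : ↥PY) : M7) * ((xE s : ↥PY) : M7) * ((W E.2.1 : ↥PY) : M7)⁻¹ =
      den (kinP mlY rdata E.2.2.2.2)
    have hm1 : Ok7 (wmatL mlY E.2.1) := (baseY.img_word hv).1.1
    have hm2 : Ok7 (wmatL mlY E.2.2.1) := (baseY.img_word hvi).1.1
    rw [hk, den_mm hm1 (ok_mm (xY_ok s).1 hm2), den_mm (xY_ok s).1 hm2, W_coe hv, (xY_ok s).2,
      mul_assoc]
    congr 2
    refine inv_eq_of_mul_eq_one_right ?_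
    rw [← den_mm hm1 hm2, hone, den_one]
  have e := hg' s hs
  rw [show iota h * baseY.Z * iota (W E.2.1) * iota (xE s) * (iota h * baseY.Z * iota (W E.2.1))⁻¹ =
      iota h * (baseY.Z * (iota (W E.2.1) * iota (xE s) * (iota (W E.2.1))⁻¹) * baseY.Z⁻¹) *
        (iota h)⁻¹ by group,
    ← map_mul, ← map_inv iota (W E.2.1), ← map_mul, hkk, hq, ← map_inv, ← map_mul, ← map_mul] at e
  have e2 := congrArg (Subtype.val : ↥PY → M7) (iota_injective e)
  rw [Subgroup.coe_mul, Subgroup.coe_mul, Subgroup.coe_inv, (xY_ok s).2] at e2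
  change (h : M7) * den (qP E.2.2.2.2) * (h : M7)⁻¹ = den (xY s) at e2
  have hiff : sq0 (qP E.2.2.2.2) = true ↔ sq0 (xY s) = true := by
    rw [sq0_iff (a := qP E.2.2.2.2) q1.1, sq0_iff (xY_ok s).1, ← e2]
    exact (sq_conj_iff _ _).symm
  change (sq0 (qP E.2.2.2.2) ^^ sq0 (xY s)) = true at hx
  cases h1 : sq0 (qP E.2.2.2.2) <;> cases h2 : sq0 (xY s) <;> simp_all

end Cfsg.Agent.H5.LyOut
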