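import Cfsg.Agent.H5.LyOut.Search

/-!
Lower triangular `7 × 7` matrices over the field with five elements.
-/

set_option autoImplicit false
set_option linter.style.haveILetI false

namespace Cfsg.Agent.H5.LyOut

/-- Nothing above the diagonal. -/
def LowT (M : Mat7) : Prop := ∀ i j : Fin 7, i < j → M i j = 0

/-- Lower triangular with unit diagonal. -/
def LowU (M : Mat7) : Prop := LowT M ∧ ∀ i, M i i = 1

theorem LowT.one : LowT (1 : Mat7) := fun _ _ h => Matrix.one_apply_ne h.ne

theorem LowT.mul {A B : Mat7} (hA : LowT A) (hB : LowT B) : LowT (A * B) := by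
  intro i j hij
  rw [Matrix.mul_apply]
  refine Finset.sum_eq_zero fun k _ => ?_
  rcases lt_or_ge i k with h | h
  · rw [hA i k h, zero_mul]
  · rw [hB k j (lt_of_le_of_lt h hij), mul_zero]

theorem LowT.mul_diag {A B : Mat7} (hA : LowT A) (hB : LowT B) (i : Fin 7) :
    (A * B) i i = A i i * B i i := by
  rw [Matrix.mul_apply]
  refine Finset.sum_eq_single i (fun k _ hk => ?_) (fun h => absurd (Finset.mem_univ i) h)
  rcases lt_or_gt_of_ne hk with h | h
  · rw [hB k i h, mul_zero]
  · rw [hA i k h, zero_mul]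

theorem LowU.one : LowU (1 : Mat7) := ⟨LowT.one, fun i => Matrix.one_apply_eq i⟩

theorem LowU.mul {A B : Mat7} (hA : LowU A) (hB : LowU B) : LowU (A * B) :=
  ⟨hA.1.mul hB.1, fun i => by rw [hA.1.mul_diag hB.1, hA.2, hB.2, mul_one]⟩

/-- Strictly lower triangular powers. -/
theorem strict_pow {N : Mat7} (hN : ∀ i j : Fin 7, i ≤ j → N i j = 0) :
    ∀ (k : ℕ) (i j : Fin 7), (i : ℕ) < (j : ℕ) + k → (N ^ k) i j = 0 := by
  intro k
  induction k with
  | zero => intro i j h; rw [pow_zero]; exact Matrix.one_apply_ne (Fin.ne_of_val_ne (by omega))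
  | succ k ih =>
    intro i j h
    rw [pow_succ, Matrix.mul_apply]
    refine Finset.sum_eq_zero fun l _ => ?_
    rcases le_or_gt l j with hl | hl
    · rw [hN l j hl, mul_zero]
    · rw [ih i l (by have : (j : ℕ) < l := hl; omega), zero_mul]

theorem LowU.strict {M : Mat7} (h : LowU M) (i j : Fin 7) (hij : i ≤ j) : (M - 1) i j = 0 := by
  rcases eq_or_lt_of_le hij with rfl | hlt
  · simp [h.2]
  · rw [Matrix.sub_apply, h.1 i j hlt, Matrix.one_apply_ne hlt.ne, sub_zero]

/-- Unitriangular matrices have exponent dividing 25. -/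
theorem LowU.pow25 {M : Mat7} (h : LowU M) : M ^ 25 = 1 := by
  haveI : Fact (Nat.Prime 5) := ⟨by norm_num⟩
  have hz : (M - 1) ^ 25 = 0 := by
    ext i j
    rw [strict_pow h.strict 25 i j (by omega)]; rfl
  have e := add_pow_char_pow_of_commute 5 2 (Commute.one_right (M - 1))
  rw [sub_add_cancel, one_pow, show (5 : ℕ) ^ 2 = 25 by norm_num, hz, zero_add] at e
  exact e

/-- A matrix carrying a regular nilpotent to a strictly lower triangular one is lower triangular. -/
theorem low_of_conj {T N N' : Mat7} (hN : ∀ i j : Fin 7, i ≤ j → N i j = 0)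
    (hN' : ∀ i j : Fin 7, i ≤ j → N' i j = 0)
    (hsub : ∀ c j : Fin 7, (c : ℕ) + 1 = j → N j c ≠ 0) (h : T * N = N' * T) : LowT T := by
  haveI : Fact (Nat.Prime 5) := ⟨by norm_num⟩
  suffices key : ∀ n : ℕ, ∀ i : Fin 7, (i : ℕ) < n → ∀ j, i < j → T i j = 0 from
    fun i j hij => key (i + 1) i (by omega) j hij
  intro n
  induction n with
  | zero => intro i hi; omega
  | succ n ih =>
    intro i hi
    suffices key2 : ∀ d : ℕ, ∀ j : Fin 7, 7 ≤ (j : ℕ) + d → i < j → T i j = 0 from
      fun j hij => key2 7 j (by omega) hij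
    intro d
    induction d with
    | zero => intro j hj; omega
    | succ d ihd =>
      intro j hj hij
      have hij' : (i : ℕ) < j := hij
      obtain ⟨c, hc⟩ : ∃ c : Fin 7, (c : ℕ) + 1 = j := ⟨⟨(j : ℕ) - 1, by omega⟩, by simp; omega⟩
      have e := congrFun (congrFun h i) c
      rw [Matrix.mul_apply, Matrix.mul_apply,
        Finset.sum_eq_single j (fun l _ hl => ?_) (fun hh => absurd (Finset.mem_univ j) hh),
        Finset.sum_eq_zero (fun k _ => ?_)] at e
      · exact (mul_eq_zero.1 e).resolve_right (hsub c j hc)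
      · rcases le_or_gt i k with hk | hk
        · rw [hN' i k hk, zero_mul]
        · have hk' : (k : ℕ) < i := hk
          rw [ih k (by omega) c (show (k : ℕ) < c by omega), mul_zero]
      · rcases le_or_gt l c with hlc | hlc
        · rw [hN l c hlc, mul_zero]
        · have hlc' : (c : ℕ) < l := hlc
          have hne : (l : ℕ) ≠ j := Fin.val_ne_of_ne hl
          rw [ihd l (by omega) (show (i : ℕ) < l by omega), zero_mul]

end Cfsg.Agent.H5.LyOut
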