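import Cfsg.Agent.H5.LyOut.Norm
import Cfsg.Prelude.Def_KGroupFacts

/-!
Every automorphism of the presented Lyons group is inner.
-/

set_option autoImplicit false
set_option maxRecDepth 100000
set_option linter.style.haveILetI false

namespace Cfsg.Agent.H5.LyOut

open Cfsg.Agent.Compute
open Cfsg.Agent.H34.Ly
open Cfsg.Agent.H27

/-- The torus inside the presented group. -/
noncomputable def Dg : Subgroup GY := D.map iota

theorem Dg_norm : Dg ≤ Subgroup.normalizer (Ug : Set GY) := by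
  rintro _ ⟨d, hd, rfl⟩
  rw [Subgroup.mem_normalizer_iff]
  intro x
  constructor
  · rintro ⟨u, hu, rfl⟩
    exact ⟨d * u * d⁻¹, D_norm hd hu, by rw [map_mul, map_mul, map_inv]⟩
  · rintro ⟨u, hu, e⟩
    refine ⟨d⁻¹ * u * d, ?_, ?_⟩
    · have := D_norm (D.inv_mem hd) hu
      rwa [inv_inv] at this
    · rw [map_mul, map_mul, map_inv, e]; group

/-- First normalisation: the unipotent subgroup is preserved. -/
theorem exists_U (α : MulAut GY) : ∃ g : GY, ∀ x ∈ Ug, (MulAut.conj g * α) x ∈ Ug := by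
  classical
  haveI : Fact (Nat.Prime 5) := ⟨by norm_num⟩
  haveI : Finite GY := finite_ly
  have hfac : (Nat.card GY).factorization 5 = 6 := by
    rw [LyRep.card_ly, show (51765179004000000 : ℕ) = 5 ^ 6 * 3312971456256 by norm_num,
      Nat.factorization_mul (by norm_num) (by norm_num), Finsupp.add_apply,
      Nat.factorization_eq_zero_of_not_dvd (show ¬ 5 ∣ 3312971456256 by norm_num),
      (Nat.prime_five).factorization_pow, Finsupp.single_eq_same]
  have hP : Nat.card Ug = 5 ^ (Nat.card GY).factorization 5 := by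
    rw [hfac, card_Ug]; norm_num
  have hQ : Nat.card (Ug.map α.toMonoidHom) = 5 ^ (Nat.card GY).factorization 5 := by
    rw [← hP]
    exact (Nat.card_congr (Subgroup.equivMapOfInjective Ug _ α.injective).toEquiv).symm
  let P : Sylow 5 GY := Sylow.ofCard _ hP
  let Q : Sylow 5 GY := Sylow.ofCard _ hQ
  obtain ⟨g, hg⟩ := MulAction.exists_smul_eq GY Q P
  refine ⟨g, fun x hx => ?_⟩
  have h : g * α x * g⁻¹ ∈ (((g • Q : Sylow 5 GY)) : Subgroup GY) := by
    rw [Sylow.coe_subgroup_smul]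
    exact ⟨α x, ⟨x, hx, rfl⟩, by simp [MulAut.conj_apply]⟩
  rw [hg] at h
  exact h

theorem map_eq_of_le (β : MulAut GY) {K : Subgroup GY} (h : ∀ x ∈ K, β x ∈ K) :
    K.map β.toMonoidHom = K := by
  haveI : Finite GY := finite_ly
  refine Subgroup.eq_of_le_of_card_ge ?_ ?_
  · rintro _ ⟨x, hx, rfl⟩; exact h x hx
  · exact le_of_eq (Nat.card_congr (Subgroup.equivMapOfInjective K _ β.injective).toEquiv)

theorem normalizer_preserved (β : MulAut GY) (h : ∀ x ∈ Ug, β x ∈ Ug) {y : GY}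
    (hy : y ∈ Subgroup.normalizer (Ug : Set GY)) : β y ∈ Subgroup.normalizer (Ug : Set GY) := by
  have hm := map_eq_of_le β h
  rw [Subgroup.mem_normalizer_iff] at hy ⊢
  intro x
  constructor
  · intro hx
    rw [← hm] at hx
    obtain ⟨x', hx', rfl⟩ := hx
    have := h _ ((hy x').1 hx')
    rwa [map_mul, map_mul, map_inv] at this
  · intro hx
    rw [← hm] at hx
    obtain ⟨x', hx', e⟩ := hx
    have e' : x = β (y⁻¹ * x' * y) := by
      change β x' = _ at e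
      rw [map_mul, map_mul, map_inv, e]; group
    rw [e']
    refine h _ ((hy _).2 ?_)
    rwa [show y * (y⁻¹ * x' * y) * y⁻¹ = x' by group]

/-- Second normalisation: the torus is preserved as well. -/
theorem exists_D (α : MulAut GY) : ∃ g : GY, (∀ x ∈ Ug, (MulAut.conj g * α) x ∈ Ug) ∧
    ∀ x ∈ Dg, (MulAut.conj g * α) x ∈ Dg := by
  classical
  obtain ⟨g, hg⟩ := exists_U α
  haveI : Fact (Nat.Prime 2) := ⟨Nat.prime_two⟩
  haveI : Finite GY := finite_ly
  set N := Subgroup.normalizer (Ug : Set GY)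
  set β := MulAut.conj g * α
  let Ds : Subgroup ↥N := Dg.subgroupOf N
  have hDs : IsPGroup 2 Ds := fun ⟨⟨x, hx⟩, hxD⟩ => by
    obtain ⟨d, hd, e⟩ := (Subgroup.mem_subgroupOf.1 hxD : x ∈ Dg)
    refine ⟨2, Subtype.ext (Subtype.ext ?_)⟩
    show x ^ 2 ^ 2 = 1
    rw [show x = iota d from e.symm, ← map_pow, show (2 : ℕ) ^ 2 = 4 by norm_num, D_pow hd, map_one]
  let P : Sylow 2 ↥N :=
    { toSubgroup := Ds
      isPGroup' := hDs
      is_maximal' := fun {Q} hQ hle => by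
        refine le_antisymm (fun q hq => ?_) hle
        set Qg : Subgroup GY := Q.map N.subtype
        have hQg : IsPGroup 2 Qg := hQ.map N.subtype
        set Qp : Subgroup ↥PY := Qg.comap iota
        have hQp : IsPGroup 2 Qp := hQg.comap_of_injective iota iota_injective
        have h2 : Qp ≤ D := by
          refine two_le hQp (fun d hd => ?_) (fun p hp u hu => ?_)
          · exact ⟨⟨iota d, Dg_norm ⟨d, hd, rfl⟩⟩, hle ⟨d, hd, rfl⟩, rfl⟩
          · obtain ⟨⟨y, hy⟩, -, e⟩ := (hp : iota p ∈ Qg)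
            change y = iota p at e
            obtain ⟨u', hu', e'⟩ := (Subgroup.mem_normalizer_iff.1 hy (iota u)).1 ⟨u, hu, rfl⟩
            rw [e, ← map_inv, ← map_mul, ← map_mul] at e'
            rw [← iota_injective e']; exact hu'
        obtain ⟨m, hm⟩ := mem_H4_iff.1 (norm_le q.2)
        show (q : GY) ∈ Dg
        exact ⟨m, h2 (show iota m ∈ Qg from hm ▸ ⟨q, hq, rfl⟩), hm⟩ }
  let Q0 : Subgroup ↥N := (Dg.map β.toMonoidHom).subgroupOf N
  have hQ0 : IsPGroup 2 Q0 := fun ⟨⟨x, hx⟩, hxQ⟩ => by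
    obtain ⟨y, ⟨d, hd, e⟩, e'⟩ := (Subgroup.mem_subgroupOf.1 hxQ : x ∈ Dg.map β.toMonoidHom)
    refine ⟨2, Subtype.ext (Subtype.ext ?_)⟩
    show x ^ 2 ^ 2 = 1
    rw [show x = β (iota d) from (e'.symm.trans (congrArg β e.symm)), ← map_pow, ← map_pow, show (2 : ℕ) ^ 2 = 4 by norm_num, D_pow hd, map_one,
      map_one]
  obtain ⟨Q, hQ⟩ := hQ0.exists_le_sylow
  obtain ⟨n, hn⟩ := MulAction.exists_smul_eq ↥N Q P
  refine ⟨(n : GY) * g, fun x hx => ?_, fun x hx => ?_⟩ <;>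
    rw [map_mul MulAut.conj, mul_assoc, MulAut.mul_apply, MulAut.conj_apply]
  · exact (Subgroup.mem_normalizer_iff.1 n.2 _).1 (hg x hx)
  · have hxN : β x ∈ N := normalizer_preserved β hg (Dg_norm hx)
    have hmem : (⟨β x, hxN⟩ : ↥N) ∈ (Q : Subgroup ↥N) :=
      hQ (Subgroup.mem_subgroupOf.2 ⟨x, hx, rfl⟩)
    have h : n * ⟨β x, hxN⟩ * n⁻¹ ∈ (((n • Q : Sylow 2 ↥N)) : Subgroup ↥N) := by
      rw [Sylow.coe_subgroup_smul]
      exact ⟨_, hmem, by simp [MulAut.conj_apply]⟩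
    rw [hn] at h
    exact h

/-! ### The two simple root subgroups -/

/-- The inner commutator. -/
def cc {G : Type*} [Group G] (a b : G) : G := a⁻¹ * b⁻¹ * a * b

/-- A test word. -/
def w2 {G : Type*} [Group G] (a b : G) : G := cc (cc (cc a b) a) a

theorem map_w2 {G K : Type*} [Group G] [Group K] (f : G →* K) (a b : G) :
    f (w2 a b) = w2 (f a) (f b) := by
  simp [w2, cc]

/-- The test word on packed matrices with given inverses. -/
noncomputable def w2P (a a' b b' : ℕ) : ℕ :=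
  let c1 := mm (mm a' b') (mm a b)
  let c1' := mm (mm b' a') (mm b a)
  let c2 := mm (mm c1' a') (mm c1 a)
  let c2' := mm (mm a' c1') (mm a c1)
  mm (mm c2' a') (mm c2 a)

theorem w2P_spec {m n : ↥PY} {a a' b b' : ℕ} (ha : Ok7 a) (em : R m = den a) (ha' : Ok7 a')
    (em' : R m⁻¹ = den a') (hb : Ok7 b) (en : R n = den b) (hb' : Ok7 b')
    (en' : R n⁻¹ = den b') : Ok7 (w2P a a' b b') ∧ R (w2 m n) = den (w2P a a' b b') := by
  obtain ⟨p1, q1⟩ := R_mul ha' em' hb' en'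
  obtain ⟨p2, q2⟩ := R_mul ha em hb en
  obtain ⟨c1, d1⟩ := R_mul p1 q1 p2 q2
  obtain ⟨p3, q3⟩ := R_mul hb' en' ha' em'
  obtain ⟨p4, q4⟩ := R_mul hb en ha em
  obtain ⟨c1', d1'⟩ := R_mul p3 q3 p4 q4
  obtain ⟨p5, q5⟩ := R_mul c1' d1' ha' em'
  obtain ⟨p6, q6⟩ := R_mul c1 d1 ha em
  obtain ⟨c2, d2⟩ := R_mul p5 q5 p6 q6
  obtain ⟨p7, q7⟩ := R_mul ha' em' c1' d1'
  obtain ⟨p8, q8⟩ := R_mul ha em c1 d1
  obtain ⟨c2', d2'⟩ := R_mul p7 q7 p8 q8
  obtain ⟨p9, q9⟩ := R_mul c2' d2' ha' em'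
  obtain ⟨p10, q10⟩ := R_mul c2 d2 ha em
  obtain ⟨c3, d3⟩ := R_mul p9 q9 p10 q10
  refine ⟨c3, Eq.trans (congrArg R ?_) d3⟩
  simp [w2, cc, mul_assoc]

theorem w2_ok : (allN 6 (fun k => Nat.beq (pT (xT k) 5) one7) &&
    (allN 6 fun k => allN 6 fun l => (Nat.beq k 0 && Nat.beq l 1) || allN 4 fun i => allN 4 fun j =>
      Nat.beq (w2P (pT (xT k) (i + 1)) (pT (xT k) (4 - i)) (pT (xT l) (j + 1)) (pT (xT l) (4 - j)))
        one7) &&
    !(Nat.beq (w2P (pT (xT 0) 1) (pT (xT 0) 4) (pT (xT 1) 1) (pT (xT 1) 4)) one7)) = true := by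
  unfold w2P pT xT mT wmatL mm one7
  decide +kernel

theorem x_five {k : ℕ} (hk : k < 6) : xE k ^ 5 = 1 := by
  have h := w2_ok
  simp only [Bool.and_eq_true, allN_iff, Nat.beq_eq] at h
  exact R_injective (by rw [(R_pow (R_x k).1 (R_x k).2 5).2, h.1.1 k hk, map_one]; exact den_one)

theorem x_inv {k : ℕ} (hk : k < 6) {i : ℕ} (hi : i ≤ 5) : (xE k ^ i)⁻¹ = xE k ^ (5 - i) :=
  inv_eq_of_mul_eq_one_right (by rw [← pow_add, Nat.add_sub_cancel' hi, x_five hk])

theorem w2_spec {k l i j : ℕ} (hk : k < 6) (hl : l < 6) (hi : i < 4) (hj : j < 4) :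
    Ok7 (w2P (pT (xT k) (i + 1)) (pT (xT k) (4 - i)) (pT (xT l) (j + 1)) (pT (xT l) (4 - j))) ∧
    R (w2 (xE k ^ (i + 1)) (xE l ^ (j + 1))) =
      den (w2P (pT (xT k) (i + 1)) (pT (xT k) (4 - i)) (pT (xT l) (j + 1)) (pT (xT l) (4 - j))) := by
  have pk := R_pow (R_x k).1 (R_x k).2
  have pl := R_pow (R_x l).1 (R_x l).2
  refine w2P_spec (pk _).1 (pk _).2 (pk _).1 ?_ (pl _).1 (pl _).2 (pl _).1 ?_
  · rw [x_inv hk (by omega), show 5 - (i + 1) = 4 - i by omega]; exact (pk _).2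
  · rw [x_inv hl (by omega), show 5 - (j + 1) = 4 - j by omega]; exact (pl _).2

theorem cls_ok : (allN 16 (fun d => Nat.beq (mm (dT d) (dT d)) one7 ||
      (Nat.blt (Data.dCls.getD d (6, 0)).1 6 &&
        Nat.beq (pT (dT d) (Data.dCls.getD d (6, 0)).2)
          (dT (Data.eIdx.getD (Data.dCls.getD d (6, 0)).1 0)))) &&
    allN 2 (fun k => Nat.blt (Data.eIdx.getD k 0) 16 &&
      !(Nat.beq (mm (dT (Data.eIdx.getD k 0)) (dT (Data.eIdx.getD k 0))) one7) &&
      Nat.beq (mm (dT (Data.eIdx.getD k 0)) (xT k)) (mm (xT k) (dT (Data.eIdx.getD k 0))))) =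
        true := by
  unfold pT dT xT mT wmatL mm one7
  decide +kernel

/-- A normalised automorphism sends each simple root element into a root subgroup. -/
theorem image_root (β : MulAut GY) (hU : ∀ x ∈ Ug, β x ∈ Ug) (hD : ∀ x ∈ Dg, β x ∈ Dg) {k : ℕ}
    (hk : k < 2) : ∃ l < 6, ∃ i < 4, β (iota (xE k)) = iota (xE l ^ (i + 1)) := by
  have h := cls_ok
  simp only [Bool.and_eq_true, allN_iff, Bool.or_eq_true, Nat.beq_eq, Nat.blt_eq,
    Bool.not_eq_true'] at h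
  obtain ⟨⟨he16, hesq⟩, hec⟩ := h.2 k hk
  have hkU : xE k ∈ U := by interval_cases k; exacts [x0_mem, x1_mem]
  obtain ⟨u, hu, eu⟩ := hU _ ⟨_, hkU, rfl⟩
  obtain ⟨d, hd, ed⟩ := hD _ ⟨_, D_mem_iff.2 ⟨_, he16, rfl⟩, rfl⟩
  obtain ⟨di, hdi, rfl⟩ := D_mem_iff.1 hd
  have hd2 : dE di * dE di ≠ 1 := fun e => by
    have h2 := congrArg iota e
    rw [map_one, map_mul, ed, ← map_mul, ← map_mul, β.map_eq_one_iff,
      map_eq_one_iff iota iota_injective] at h2
    have h3 := (R_mul (R_d (Data.eIdx.getD k 0)).1 (R_d (Data.eIdx.getD k 0)).2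
      (R_d (Data.eIdx.getD k 0)).1 (R_d (Data.eIdx.getD k 0)).2).2
    rw [h2, map_one] at h3
    have := den_inj (ok_mm (R_d _).1 (R_d _).1) ok_one (h3.symm.trans den_one.symm)
    rw [this, Nat.beq_refl] at hesq
    exact Bool.noConfusion hesq
  have hdi' := (h.1 di hdi).resolve_left fun e => hd2 (R_injective (by
    rw [(R_mul (R_d di).1 (R_d di).2 (R_d di).1 (R_d di).2).2, e, map_one]; exact den_one))
  obtain ⟨hl, hpw⟩ := hdi'
  have hcomm : Commute (dE (Data.eIdx.getD k 0)) (xE k) :=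
    eq_of_R (R_mul (R_d _).1 (R_d _).2 (R_x k).1 (R_x k).2).2
      (R_mul (R_x k).1 (R_x k).2 (R_d _).1 (R_d _).2).2 hec
  have hc : Commute (dE di) u := by
    apply iota_injective
    rw [map_mul, map_mul, ed, eu, ← map_mul, ← map_mul, ← map_mul, ← map_mul, hcomm.eq]
  obtain ⟨p1, p2⟩ := R_pow (R_d di).1 (R_d di).2 (Data.dCls.getD di (6, 0)).2
  have he : dE di ^ (Data.dCls.getD di (6, 0)).2 = eE (Data.dCls.getD di (6, 0)).1 :=
    eq_of_R p2 (R_d _).2 hpw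
  obtain ⟨i, hi, rfl⟩ := root_cent hl hu (he ▸ hc.pow_left _)
  rcases i with _ | i
  · exfalso
    rw [pow_zero, map_one, eq_comm, β.map_eq_one_iff, map_eq_one_iff iota iota_injective] at eu
    have hind := indep_01
    simp only [indep, Bool.and_eq_true, Bool.not_eq_true', allN_iff, Nat.beq_eq] at hind
    have hne : xT k ≠ one7 := by
      interval_cases k
      · intro e; have := hind.1.2; rw [e, Nat.beq_refl] at this; exact Bool.noConfusion this
      · intro e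
        have := hind.2 0 (by norm_num)
        rw [e, show pT (xT 0) 0 = one7 from rfl, Nat.beq_refl] at this
        exact Bool.noConfusion this
    exact ne_of_R (R_x k).1 (R_x k).2 ok_one (by rw [map_one]; exact den_one.symm) hne eu
  · exact ⟨_, hl, i, by omega, eu.symm⟩

theorem simple_roots (β : MulAut GY) (hU : ∀ x ∈ Ug, β x ∈ Ug) (hD : ∀ x ∈ Dg, β x ∈ Dg) :
    ∃ i < 4, ∃ j < 4, β (iota (xE 0)) = iota (xE 0 ^ (i + 1)) ∧
      β (iota (xE 1)) = iota (xE 1 ^ (j + 1)) := by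
  obtain ⟨k, hk, i, hi, e0⟩ := image_root β hU hD (k := 0) (by norm_num)
  obtain ⟨l, hl, j, hj, e1⟩ := image_root β hU hD (k := 1) (by norm_num)
  have h := w2_ok
  simp only [Bool.and_eq_true, allN_iff, Bool.or_eq_true, Nat.beq_eq, Bool.not_eq_true'] at h
  rcases h.1.2 k hk l hl with ⟨rfl, rfl⟩ | hkl
  · exact ⟨i, hi, j, hj, e0, e1⟩
  exfalso
  have e := map_w2 β.toMonoidHom (iota (xE 0)) (iota (xE 1))
  change β _ = w2 (β _) (β _) at e
  rw [e0, e1, ← map_w2, ← map_w2] at e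
  have hone : w2 (xE k ^ (i + 1)) (xE l ^ (j + 1)) = 1 :=
    R_injective (by rw [(w2_spec hk hl hi hj).2, hkl i hi j hj, map_one]; exact den_one)
  rw [hone, map_one, β.map_eq_one_iff, map_eq_one_iff iota iota_injective] at e
  obtain ⟨s1, s2⟩ := w2_spec (k := 0) (l := 1) (i := 0) (j := 0) (by norm_num) (by norm_num)
    (by norm_num) (by norm_num)
  rw [pow_one, pow_one, e, map_one] at s2
  have := den_inj s1 ok_one (s2.symm.trans den_one.symm)
  rw [this, Nat.beq_refl] at h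
  exact Bool.noConfusion h.2

/-! ### The final normalisation -/

theorem fix_ok : ((allN 4 fun i => allN 4 fun j => (List.range 16).any fun d =>
      Nat.beq (mm (dT d) (pT (xT 0) (i + 1))) (mm (xT 0) (dT d)) &&
        Nat.beq (mm (dT d) (pT (xT 1) (j + 1))) (mm (xT 1) (dT d))) &&
    allN 16 fun d => Nat.beq (dT d) one7 || !(Nat.beq (mm (dT d) (xT 0)) (mm (xT 0) (dT d)) &&
      Nat.beq (mm (dT d) (xT 1)) (mm (xT 1) (dT d)))) = true := by
  unfold pT dT xT mT wmatL mm one7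
  decide +kernel

/-- Every automorphism can be normalised to fix the unipotent subgroup and the torus pointwise. -/
theorem exists_fix (α : MulAut GY) : ∃ g : GY, (∀ u ∈ U, (MulAut.conj g * α) (iota u) = iota u) ∧
    ∀ d ∈ D, (MulAut.conj g * α) (iota d) = iota d := by
  obtain ⟨g, hU, hD⟩ := exists_D α
  obtain ⟨i, hi, j, hj, e0, e1⟩ := simple_roots _ hU hD
  have h := fix_ok
  simp only [Bool.and_eq_true, allN_iff, List.any_eq_true, List.mem_range, Nat.beq_eq,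
    Bool.or_eq_true, Bool.not_eq_true'] at h
  obtain ⟨d, hd, c0, c1⟩ := h.1 i hi j hj
  have conj : ∀ (k a : ℕ), mm (dT d) (pT (xT k) a) = mm (xT k) (dT d) →
      dE d * xE k ^ a * (dE d)⁻¹ = xE k := fun k a e => by
    rw [mul_inv_eq_iff_eq_mul]
    obtain ⟨p1, p2⟩ := R_pow (R_x k).1 (R_x k).2 a
    exact eq_of_R (R_mul (R_d d).1 (R_d d).2 p1 p2).2 (R_mul (R_x k).1 (R_x k).2 (R_d d).1 (R_d d).2).2
      e
  set γ := MulAut.conj (iota (dE d) * g) * α with hγ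
  have hγ' : ∀ x, γ x = iota (dE d) * (MulAut.conj g * α) x * (iota (dE d))⁻¹ := fun x => by
    rw [hγ, map_mul MulAut.conj, mul_assoc, MulAut.mul_apply, MulAut.conj_apply]
  have g0 : γ (iota (xE 0)) = iota (xE 0) := by
    rw [hγ', e0, ← map_inv, ← map_mul, ← map_mul, conj 0 _ c0]
  have g1 : γ (iota (xE 1)) = iota (xE 1) := by
    rw [hγ', e1, ← map_inv, ← map_mul, ← map_mul, conj 1 _ c1]
  have gU : ∀ u ∈ U, γ (iota u) = iota u := by
    have hle : U ≤ (γ.toMonoidHom.comp iota).eqLocus iota := by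
      refine (Subgroup.closure_le _).2 ?_
      rintro _ (rfl | rfl)
      exacts [g0, g1]
    exact fun u hu => hle hu
  refine ⟨_, gU, fun e he => ?_⟩
  obtain ⟨e', he', ee'⟩ := hD _ ⟨e, he, rfl⟩
  have hdD : dE d ∈ D := D_mem_iff.2 ⟨d, hd, rfl⟩
  have hge : γ (iota e) = iota (dE d * e' * (dE d)⁻¹) := by
    rw [hγ', ← ee', map_mul, map_mul, map_inv]
  rw [hge]
  set f := dE d * e' * (dE d)⁻¹
  have hf : f ∈ D := D.mul_mem (D.mul_mem hdD he') (D.inv_mem hdD)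
  have hc : ∀ x ∈ U, Commute (e⁻¹ * f) x := by
    intro x hx
    have h1 := D_norm he hx
    have h2 : γ (iota (e * x * e⁻¹)) = iota (e * x * e⁻¹) := gU _ h1
    rw [map_mul iota, map_mul iota, map_inv iota, map_mul γ, map_mul γ, map_inv γ, hge, gU x hx,
      ← map_inv iota, ← map_inv iota, ← map_mul, ← map_mul, ← map_mul, ← map_mul] at h2
    have h3 := iota_injective h2
    show e⁻¹ * f * x = x * (e⁻¹ * f)
    calc e⁻¹ * f * x = e⁻¹ * (f * x * f⁻¹) * f := by group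
      _ = e⁻¹ * (e * x * e⁻¹) * f := by rw [h3]
      _ = x * (e⁻¹ * f) := by group
  obtain ⟨c, hc16, hcd⟩ := D_mem_iff.1 (D.mul_mem (D.inv_mem he) hf)
  have hone : dE c = 1 := by
    rcases h.2 c hc16 with e1' | e1'
    · exact R_injective (by rw [(R_d c).2, e1', map_one]; exact den_one)
    · exfalso
      have a0 := hc _ x0_mem
      have a1 := hc _ x1_mem
      rw [hcd] at a0 a1
      have q : ∀ k, Commute (dE c) (xE k) → mm (dT c) (xT k) = mm (xT k) (dT c) := fun k hk => by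
        obtain ⟨p1, p2⟩ := R_mul (R_d c).1 (R_d c).2 (R_x k).1 (R_x k).2
        obtain ⟨q1, q2⟩ := R_mul (R_x k).1 (R_x k).2 (R_d c).1 (R_d c).2
        exact den_inj p1 q1 (by rw [← p2, ← q2, hk.eq])
      rw [q 0 a0, q 1 a1, Nat.beq_refl, Nat.beq_refl] at e1'
      exact Bool.noConfusion e1'
  rw [hone, inv_mul_eq_one] at hcd
  rw [hcd]

/-! ### The negative root elements and `z` -/

theorem neg_ok : (indep 1 5 && indep 0 3 &&
    Nat.beq (xT 8) (dT Data.kaI) && Nat.beq (xT 9) (dT Data.kbI) &&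
    Nat.blt Data.kaI 16 && Nat.blt Data.kbI 16 &&
    Nat.beq (mm (xT 6) (xT 1)) (mm (xT 1) (xT 6)) && Nat.beq (mm (xT 6) (xT 5)) (mm (xT 5) (xT 6)) &&
    Nat.beq (mm (xT 6) (xT 8)) (mm (xT 8) (xT 6)) &&
    Nat.beq (mm (xT 7) (xT 0)) (mm (xT 0) (xT 7)) && Nat.beq (mm (xT 7) (xT 3)) (mm (xT 3) (xT 7)) &&
    Nat.beq (mm (xT 7) (xT 4)) (mm (xT 4) (xT 7)) && Nat.beq (mm (xT 7) (xT 9)) (mm (xT 9) (xT 7)) &&
    Nat.beq (pT (mm (xT 0) (pT (xT 6) 1)) 10) one7 &&
    Nat.beq (pT (mm (xT 1) (pT (xT 7) 1)) 10) one7 &&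
    (allN 5 fun i => Nat.beq i 0 || Nat.beq i 1 || !(Nat.beq (pT (mm (xT 0) (pT (xT 6) i)) 10) one7)) &&
    (allN 5 fun i => Nat.beq i 0 || Nat.beq i 1 || !(Nat.beq (pT (mm (xT 1) (pT (xT 7) i)) 10) one7))) = true := by
  unfold indep pT dT xT mT wmatL mm one7
  decide +kernel

theorem spec1_ok : (covOK Data.diag1 false Data.lev1 &&
    search Data.mons Data.com1 Data.out1 Data.lev1 [] 0 &&
    Nat.beq Data.diag1.length 1 && Nat.beq (Data.diag1.getD 0 0) (xT 8) &&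
    Nat.beq Data.com1.length 2 && Nat.beq (Data.com1.getD 0 0) (xT 1) &&
    Nat.beq (Data.com1.getD 1 0) (xT 5) && Nat.beq Data.out1.length 5 &&
    allN 5 (fun i => Nat.beq (Data.out1.getD i 0) (pT (xT 6) i))) = true := by
  unfold pT xT mT wmatL mm one7
  decide +kernel

theorem spec2_ok : (covOK Data.diag2 false Data.lev2 &&
    search Data.mons Data.com2 Data.out2 Data.lev2 [] 0 &&
    Nat.beq Data.diag2.length 1 && Nat.beq (Data.diag2.getD 0 0) (xT 9) &&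
    Nat.beq Data.com2.length 3 && Nat.beq (Data.com2.getD 0 0) (xT 0) &&
    Nat.beq (Data.com2.getD 1 0) (xT 3) && Nat.beq (Data.com2.getD 2 0) (xT 4) &&
    Nat.beq Data.out2.length 5 &&
    allN 5 (fun i => Nat.beq (Data.out2.getD i 0) (pT (xT 7) i))) = true := by
  unfold pT xT mT wmatL mm one7
  decide +kernel

theorem cent_c {n : ↥PY} (h1 : Commute (xE 1) n) (h5 : Commute (xE 5) n) (h8 : Commute (xE 8) n) :
    ∃ i < 5, n = xE 6 ^ i := by
  have h := spec1_ok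
  simp only [Bool.and_eq_true, Nat.beq_eq, allN_iff] at h
  obtain ⟨⟨⟨⟨⟨⟨⟨⟨hcov, hrun⟩, hl⟩, hd⟩, hlc⟩, hc0⟩, hc1⟩, hlo⟩, hout⟩ := h
  have coe : ∀ k, toMat 7 7 5 (xT k) = ((R (xE k) : M7) : Mat7) := fun k => by
    rw [(R_x k).2, den_coe (R_x k).1]
  have hmem := search_mem hcov hrun (m := n) (fun d hd' => ?_) (fun g hg => ?_)
    (fun hu => Bool.noConfusion hu)
  · obtain ⟨i, hi, e⟩ := List.getElem_of_mem hmem
    rw [← List.getD_eq_getElem Data.out1 0 hi, hout i (by omega)] at e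
    obtain ⟨p1, p2⟩ := R_pow (R_x 6).1 (R_x 6).2 i
    exact ⟨i, by omega, R_injective ((eq_of_enc p1 e.symm).trans p2.symm)⟩
  · obtain ⟨i, hi, e⟩ := List.getElem_of_mem hd'
    rw [← List.getD_eq_getElem Data.diag1 0 hi] at e
    obtain rfl : i = 0 := by omega
    exact ⟨xE 8, by rw [← e, hd, coe], h8⟩
  · obtain ⟨i, hi, e⟩ := List.getElem_of_mem hg
    rw [← List.getD_eq_getElem Data.com1 0 hi] at e
    rcases (show i = 0 ∨ i = 1 by omega) with rfl | rfl
    · exact ⟨xE 1, by rw [← e, hc0, coe], h1⟩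
    · exact ⟨xE 5, by rw [← e, hc1, coe], h5⟩

theorem cent_d {n : ↥PY} (h0 : Commute (xE 0) n) (h3 : Commute (xE 3) n) (h4 : Commute (xE 4) n)
    (h9 : Commute (xE 9) n) : ∃ i < 5, n = xE 7 ^ i := by
  have h := spec2_ok
  simp only [Bool.and_eq_true, Nat.beq_eq, allN_iff] at h
  obtain ⟨⟨⟨⟨⟨⟨⟨⟨⟨hcov, hrun⟩, hl⟩, hd⟩, hlc⟩, hc0⟩, hc1⟩, hc2⟩, hlo⟩, hout⟩ := h
  have coe : ∀ k, toMat 7 7 5 (xT k) = ((R (xE k) : M7) : Mat7) := fun k => by
    rw [(R_x k).2, den_coe (R_x k).1]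
  have hmem := search_mem hcov hrun (m := n) (fun d hd' => ?_) (fun g hg => ?_)
    (fun hu => Bool.noConfusion hu)
  · obtain ⟨i, hi, e⟩ := List.getElem_of_mem hmem
    rw [← List.getD_eq_getElem Data.out2 0 hi, hout i (by omega)] at e
    obtain ⟨p1, p2⟩ := R_pow (R_x 7).1 (R_x 7).2 i
    exact ⟨i, by omega, R_injective ((eq_of_enc p1 e.symm).trans p2.symm)⟩
  · obtain ⟨i, hi, e⟩ := List.getElem_of_mem hd'
    rw [← List.getD_eq_getElem Data.diag2 0 hi] at e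
    obtain rfl : i = 0 := by omega
    exact ⟨xE 9, by rw [← e, hd, coe], h9⟩
  · obtain ⟨i, hi, e⟩ := List.getElem_of_mem hg
    rw [← List.getD_eq_getElem Data.com2 0 hi] at e
    rcases (show i = 0 ∨ i = 1 ∨ i = 2 by omega) with rfl | rfl | rfl
    · exact ⟨xE 0, by rw [← e, hc0, coe], h0⟩
    · exact ⟨xE 3, by rw [← e, hc1, coe], h3⟩
    · exact ⟨xE 4, by rw [← e, hc2, coe], h4⟩

end Cfsg.Agent.H5.LyOut
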