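import Cfsg.Agent.H5.LyOut.Exact
import Cfsg.Agent.H5.LyOut.Data
import Cfsg.Agent.H5.LyOut.Lower

/-!
`⟨a, b, c, d⟩` in the weight basis: words, the invariant form, and the use of the search.
-/

set_option autoImplicit false
set_option maxRecDepth 100000
set_option linter.style.haveILetI false

namespace Cfsg.Agent.H5.LyOut

open Cfsg.Agent.Compute
open Cfsg.Agent.H34.Ly
open Cfsg.Agent.H27

/-- The change of basis. -/
noncomputable def Pm : M7 := den Data.pp

/-- The representation in the weight basis. -/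
noncomputable def R : ↥PY →* M7 := (MulAut.conj Pm).toMonoidHom.comp PY.subtype

theorem R_apply (m : ↥PY) : R m = Pm * (m : M7) * Pm⁻¹ := rfl

theorem R_injective : Function.Injective R :=
  fun x y h => Subtype.ext ((MulAut.conj Pm).injective h)

/-- The letters in the weight basis. -/
noncomputable def lT (i : ℕ) : ℕ := Data.mlT.getD i 0

/-- The matrix of a word in the weight basis. -/
noncomputable def mT (w : List ℕ) : ℕ := wmatL lT w

theorem lT_check : (invb Data.pp Data.ppi &&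
    allN 8 fun i => Nat.beq (mm (mm Data.pp (mlY i)) Data.ppi) (lT i)) = true := by
  unfold invb mm
  decide +kernel

theorem lT_ok {i : ℕ} (hi : i < 8) : Ok7 (lT i) ∧ den (lT i) = Pm * den (mlY i) * Pm⁻¹ := by
  have h := lT_check
  simp only [Bool.and_eq_true, allN_iff, Nat.beq_eq] at h
  obtain ⟨hp, hpi, hd⟩ := invb_sound h.1
  rw [← h.2 i hi]
  have hl : Ok7 (mlY i) := baseY.ok i hi
  exact ⟨ok_mm (ok_mm hp hl) hpi, by rw [den_mm (ok_mm hp hl) hpi, den_mm hp hl, hd]; rfl⟩

open Classical in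
/-- The element of a word. -/
noncomputable def W (w : List ℕ) : ↥PY :=
  if h : vw w = true then ⟨den (wmatL mlY w), (baseY.img_word h).1.mem⟩ else 1

theorem W_coe {w : List ℕ} (h : vw w = true) : ((W w : ↥PY) : M7) = den (wmatL mlY w) := by
  rw [W, dif_pos h]

theorem iota_W {w : List ℕ} (h : vw w = true) : iota (W w) = baseY.wg w := by
  obtain ⟨h1, h2⟩ := baseY.img_word h
  show baseY.Gam _ = _
  rw [W_coe h, ← h2, baseY.gam_eq_Gam h1]
  rfl

theorem mT_conj : ∀ {w : List ℕ}, vw w = true →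
    Ok7 (mT w) ∧ den (mT w) = Pm * den (wmatL mlY w) * Pm⁻¹ := by
  intro w
  induction w with
  | nil =>
    intro _
    refine ⟨ok_one, ?_⟩
    show den one7 = Pm * den one7 * Pm⁻¹
    simp [den_one]
  | cons a t ih =>
    intro h
    simp only [vw, List.all_cons, Bool.and_eq_true, decide_eq_true_eq] at h
    obtain ⟨t1, t2⟩ := ih h.2
    obtain ⟨a1, a2⟩ := lT_ok h.1
    obtain ⟨w1, -⟩ := baseY.img_word (w := t) h.2
    refine ⟨ok_mm a1 t1, ?_⟩
    show den (mm (lT a) (mT t)) = Pm * den (mm (mlY a) (wmatL mlY t)) * Pm⁻¹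
    rw [den_mm a1 t1, a2, t2, den_mm (a := mlY a) (b := wmatL mlY t) (baseY.ok a h.1) w1.1]
    group

theorem R_W {w : List ℕ} (h : vw w = true) : Ok7 (mT w) ∧ R (W w) = den (mT w) := by
  obtain ⟨h1, h2⟩ := mT_conj h
  exact ⟨h1, by rw [R_apply, W_coe h, h2]⟩

theorem den_coe {a : ℕ} (h : Ok7 a) : ((den a : M7) : Mat7) = toMat 7 7 5 a := by
  unfold Ok7 at h
  unfold den
  exact matDen_coe h

theorem R_W_coe {w : List ℕ} (h : vw w = true) : ((R (W w) : M7) : Mat7) = toMat 7 7 5 (mT w) := by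
  rw [(R_W h).2, den_coe (R_W h).1]

theorem ok_lt {a : ℕ} (h : Ok7 a) : ∀ k < 49, getP 7 a k < 5 := by
  unfold Ok7 at h
  exact (show MatOK 7 7 5 a from h).1.1

/-- The eight root elements and two torus elements. -/
noncomputable def xE (k : ℕ) : ↥PY := W (Data.wX.getD k [])

/-- The torus. -/
noncomputable def dE (i : ℕ) : ↥PY := W (Data.wD.getD i [])

theorem words_ok : ((Data.wX ++ Data.wD).all vw) = true := by decide +kernel

theorem vX (k : ℕ) : vw (Data.wX.getD k []) = true := by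
  rcases Nat.lt_or_ge k Data.wX.length with h | h
  · rw [List.getD_eq_getElem _ _ h]
    exact List.all_eq_true.mp words_ok _ (List.mem_append_left _ (List.getElem_mem h))
  · rw [List.getD_eq_default _ _ h]; rfl

theorem vD (i : ℕ) : vw (Data.wD.getD i []) = true := by
  rcases Nat.lt_or_ge i Data.wD.length with h | h
  · rw [List.getD_eq_getElem _ _ h]
    exact List.all_eq_true.mp words_ok _ (List.mem_append_right _ (List.getElem_mem h))
  · rw [List.getD_eq_default _ _ h]; rfl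

/-- The matrix of a root element. -/
noncomputable def xT (k : ℕ) : ℕ := mT (Data.wX.getD k [])

/-- The matrix of a torus element. -/
noncomputable def dT (i : ℕ) : ℕ := mT (Data.wD.getD i [])

theorem R_x (k : ℕ) : Ok7 (xT k) ∧ R (xE k) = den (xT k) := R_W (vX k)

theorem R_d (i : ℕ) : Ok7 (dT i) ∧ R (dE i) = den (dT i) := R_W (vD i)

theorem eq_of_R {m n : ↥PY} {a b : ℕ} (hm : R m = den a) (hn : R n = den b) (h : a = b) :
    m = n := R_injective (by rw [hm, hn, h])

/-- Powers of a packed matrix. -/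
noncomputable def pT (a n : ℕ) : ℕ := Nat.rec one7 (fun _ ih => mm ih a) n

theorem R_pow {m : ↥PY} {a : ℕ} (ha : Ok7 a) (hm : R m = den a) :
    ∀ n, Ok7 (pT a n) ∧ R (m ^ n) = den (pT a n)
  | 0 => ⟨ok_one, by rw [pow_zero, map_one]; exact den_one.symm⟩
  | n + 1 => by
    obtain ⟨h1, h2⟩ := R_pow ha hm n
    refine ⟨ok_mm h1 ha, ?_⟩
    rw [pow_succ, map_mul, h2, hm]
    exact (den_mm h1 ha).symm

theorem R_mul {m n : ↥PY} {a b : ℕ} (ha : Ok7 a) (hm : R m = den a) (hb : Ok7 b)
    (hn : R n = den b) : Ok7 (mm a b) ∧ R (m * n) = den (mm a b) :=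
  ⟨ok_mm ha hb, by rw [map_mul, hm, hn, den_mm ha hb]⟩

theorem ne_of_R {m n : ↥PY} {a b : ℕ} (ha : Ok7 a) (hm : R m = den a) (hb : Ok7 b)
    (hn : R n = den b) (h : a ≠ b) : m ≠ n :=
  fun e => h (den_inj ha hb (by rw [← hm, ← hn, e]))

/-! ### The invariant form -/

/-- The form is preserved by the letters. -/
noncomputable def formOK (i : ℕ) : Bool :=
  allN 7 fun a => allN 7 fun b => allN 7 fun c =>
    Nat.beq (fv Data.mons (lT i) a b c) (fv Data.mons (matOps 7 7 5).one a b c)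

theorem form_check : allN 8 formOK = true := by decide +kernel

theorem lT_inv {i : ℕ} (hi : i < 8) : toMat 7 7 5 (lT i) ∈ Inv Data.mons := by
  have h := form_check
  simp only [allN_iff, formOK, Nat.beq_eq] at h
  intro a b c
  have e := h i hi a a.2 b b.2 c c.2
  have hone : toMat 7 7 5 (matOps 7 7 5).one = 1 := (matCanon_one (by norm_num) (by norm_num)).2
  rw [← hone, ← fv_cast, ← fv_cast, e]

theorem R_inv (m : ↥PY) : ((R m : M7) : Mat7) ∈ Inv Data.mons := by
  set S : Submonoid M7 := (Inv Data.mons).comap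
    ((Units.coeHom Mat7).comp (MulAut.conj Pm).toMonoidHom) with hS
  have hle : (PY : Set M7) ⊆ S := by
    have h1 : PY = Subgroup.closure {n | ∃ i < 8, n = den (mlY i)} := by
      show (pairsOf glY mlY).map (MonoidHom.snd GY M7) = _
      rw [pairsOf, MonoidHom.map_closure]
      congr 1
      ext n
      constructor
      · rintro ⟨-, ⟨i, hi, rfl⟩, rfl⟩; exact ⟨i, hi, rfl⟩
      · rintro ⟨i, hi, rfl⟩; exact ⟨_, ⟨i, hi, rfl⟩, rfl⟩
    intro n hn
    rw [SetLike.mem_coe, h1, ← Subgroup.mem_toSubmonoid,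
      Subgroup.closure_toSubmonoid_of_finite] at hn
    refine (Submonoid.closure_le.2 ?_ : _ ≤ S) hn
    rintro k ⟨i, hi, rfl⟩
    show ((Pm * den (mlY i) * Pm⁻¹ : M7) : Mat7) ∈ Inv Data.mons
    obtain ⟨h2, h3⟩ := lT_ok hi
    rw [← h3, den_coe h2]
    exact lT_inv hi
  exact hle m.2

/-! ### Running the search -/

/-- Packing a matrix. -/
noncomputable def enc (M : Mat7) : ℕ := packP 7 (fun p => (M (ix (p / 7)) (ix p)).val) 49

theorem toMat_enc (M : Mat7) : toMat 7 7 5 (enc M) = M := by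
  obtain ⟨-, h⟩ := matCanon_pack (w := 7) (n := 7) (q := 5) (by norm_num)
    (fun p => (M (ix (p / 7)) (ix p)).val) fun _ _ => ZMod.val_lt _
  ext i j
  rw [enc, show (49 : ℕ) = 7 * 7 from rfl, h]
  have e1 : ix (((i : ℕ) * 7 + j) / 7) = i := by
    apply Fin.ext; rw [ix_val]; omega
  have e2 : ix ((i : ℕ) * 7 + j) = j := by
    apply Fin.ext; rw [ix_val]; omega
  rw [e1, e2, ZMod.natCast_zmod_val]

theorem eq_of_enc {m : ↥PY} {a : ℕ} (ha : Ok7 a) (h : enc ((R m : M7) : Mat7) = a) :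
    R m = den a :=
  Units.ext (by rw [den_coe ha, ← h, toMat_enc])

/-- A diagonal packed matrix. -/
noncomputable def diagOK (d : ℕ) : Bool :=
  allN 7 fun i => allN 7 fun j =>
    Nat.blt (getP 7 d (i * 7 + j)) 5 && (Nat.beq i j || Nat.beq (getP 7 d (i * 7 + j)) 0)

/-- The prescriptions follow from the diagonal matrices and, if `uni`, unitriangularity. -/
noncomputable def covOK (ds : List ℕ) (uni : Bool) (ls : List Lev) : Bool :=
  ds.all diagOK && ls.all fun l => Nat.blt l.r 7 && allN 7 fun c =>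
    Nat.beq (l.cols.getD c 0) 5 ||
      (uni && Nat.ble l.r c && Nat.beq (l.cols.getD c 0) (cond (Nat.beq l.r c) 1 0)) ||
      (Nat.beq (l.cols.getD c 0) 0 &&
        ds.any fun d => !(Nat.beq (getP 7 d (l.r * 7 + l.r)) (getP 7 d (c * 7 + c))))

theorem diag_comm {d : ℕ} {M : Mat7} (hd : diagOK d = true)
    (h : toMat 7 7 5 d * M = M * toMat 7 7 5 d) (i j : Fin 7)
    (hij : getP 7 d ((i : ℕ) * 7 + i) ≠ getP 7 d ((j : ℕ) * 7 + j)) : M i j = 0 := by
  haveI : Fact (Nat.Prime 5) := ⟨by norm_num⟩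
  simp only [diagOK, allN_iff, Bool.and_eq_true, Bool.or_eq_true, Nat.blt_eq, Nat.beq_eq] at hd
  have off : ∀ a b : Fin 7, a ≠ b → toMat 7 7 5 d a b = 0 := by
    intro a b hab
    have := ((hd a a.2 b b.2).2).resolve_left (Fin.val_ne_of_ne hab)
    simp [toMat, this]
  have e := congrFun (congrFun h i) j
  rw [Matrix.mul_apply, Matrix.mul_apply,
    Finset.sum_eq_single i (fun k _ hk => by rw [off i k (Ne.symm hk), zero_mul])
      (fun hh => absurd (Finset.mem_univ i) hh),
    Finset.sum_eq_single j (fun k _ hk => by rw [off k j hk, mul_zero])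
      (fun hh => absurd (Finset.mem_univ j) hh)] at e
  have hne : toMat 7 7 5 d i i - toMat 7 7 5 d j j ≠ 0 := by
    rw [sub_ne_zero]
    intro e'
    simp only [toMat] at e'
    rw [ZMod.natCast_eq_natCast_iff', Nat.mod_eq_of_lt (hd i i.2 i i.2).1,
      Nat.mod_eq_of_lt (hd j j.2 j j.2).1] at e'
    exact hij e'
  refine (mul_eq_zero.1 (?_ : (toMat 7 7 5 d i i - toMat 7 7 5 d j j) * M i j = 0)).resolve_left hne
  rw [sub_mul, e, mul_comm (M i j), sub_self]

/-- A checked search, applied to an element of the group. -/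
theorem search_mem {ds com out : List ℕ} {uni : Bool} {ls : List Lev} {m : ↥PY}
    (hcov : covOK ds uni ls = true) (hrun : search Data.mons com out ls [] 0 = true)
    (hds : ∀ d ∈ ds, ∃ n, toMat 7 7 5 d = ((R n : M7) : Mat7) ∧ Commute n m)
    (hcom : ∀ g ∈ com, ∃ n, toMat 7 7 5 g = ((R n : M7) : Mat7) ∧ Commute n m)
    (huni : uni = true → LowU ((R m : M7) : Mat7)) : enc ((R m : M7) : Mat7) ∈ out := by
  haveI : Fact (Nat.Prime 5) := ⟨by norm_num⟩
  set M : Mat7 := ((R m : M7) : Mat7) with hM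
  have comm : ∀ {g : ℕ}, (∃ n, toMat 7 7 5 g = ((R n : M7) : Mat7) ∧ Commute n m) →
      toMat 7 7 5 g * M = M * toMat 7 7 5 g := by
    rintro g ⟨n, e, hc⟩
    rw [e, hM, ← Units.val_mul, ← Units.val_mul, ← map_mul, ← map_mul, hc.eq]
  set e : ℕ → ℕ := fun p => (M (ix (p / 7)) (ix p)).val with he
  have he5 : ∀ p, e p < 5 := fun p => ZMod.val_lt _
  have hent : ∀ i j : Fin 7, M i j = (e ((i : ℕ) * 7 + j) : ZMod 5) := by
    intro i j
    simp only [he]
    have e1 : ix (((i : ℕ) * 7 + j) / 7) = i := by apply Fin.ext; rw [ix_val]; omega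
    have e2 : ix ((i : ℕ) * 7 + j) = j := by apply Fin.ext; rw [ix_val]; omega
    rw [e1, e2, ZMod.natCast_zmod_val]
  have hpart : packP 7 (part e []) 49 = 0 := by
    exact (packP_congr 7 49 (g := fun _ => 0) (fun _ _ => rfl)).trans (packP_zero 49)
  refine search_sound (R_inv m) (fun g hg => comm (hcom g hg)) e he5 hent ls []
    (fun l hl c hc => ?_) (by rw [hpart]; exact hrun)
  simp only [covOK, Bool.and_eq_true, List.all_eq_true] at hcov
  obtain ⟨hdiag, hl'⟩ := hcov
  have h := hl' l hl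
  simp only [Nat.blt_eq, allN_iff, Bool.or_eq_true, Bool.and_eq_true, Nat.beq_eq,
    List.any_eq_true, Bool.not_eq_true', Nat.ble_eq] at h
  obtain ⟨hr, hcases⟩ := h
  rcases hcases c hc with (h5 | ⟨⟨hu, hle⟩, hv⟩) | ⟨hv, d, hd, hne⟩
  · exact Or.inl h5
  · refine Or.inr ?_
    have hU := huni hu
    rw [hv]
    have h1 := hent ⟨l.r, hr⟩ ⟨c, hc⟩
    simp only [] at h1
    rcases Nat.lt_or_eq_of_le hle with hlt | rfl
    · rw [show Nat.beq l.r c = false from by
        rw [Bool.eq_false_iff]; intro hb; exact hlt.ne (Nat.eq_of_beq_eq_true hb), cond_false]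
      rw [hU.1 _ _ (show (⟨l.r, hr⟩ : Fin 7) < ⟨c, hc⟩ from hlt)] at h1
      have := congrArg ZMod.val h1.symm
      rwa [ZMod.val_natCast, Nat.mod_eq_of_lt (he5 _), ZMod.val_zero] at this
    · rw [Nat.beq_refl, cond_true]
      rw [hU.2 _] at h1
      have := congrArg ZMod.val h1.symm
      rwa [ZMod.val_natCast, Nat.mod_eq_of_lt (he5 _), ZMod.val_one] at this
  · refine Or.inr ?_
    rw [hv]
    have h1 := hent ⟨l.r, hr⟩ ⟨c, hc⟩
    simp only [] at h1
    rw [diag_comm (hdiag d hd) (comm (hds d hd)) ⟨l.r, hr⟩ ⟨c, hc⟩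
      (fun hh => by rw [hh, Nat.beq_refl] at hne; exact Bool.noConfusion hne)] at h1
    have := congrArg ZMod.val h1.symm
    rwa [ZMod.val_natCast, Nat.mod_eq_of_lt (he5 _), ZMod.val_zero] at this

end Cfsg.Agent.H5.LyOut
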