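import Cfsg.Agent.H5.LyOut.Fixed

/-!
The normaliser of the unipotent subgroup, the torus, and the root subgroups.
-/

set_option autoImplicit false
set_option maxRecDepth 100000
set_option linter.style.haveILetI false

namespace Cfsg.Agent.H5.LyOut

open Cfsg.Agent.Compute
open Cfsg.Agent.H34.Ly
open Cfsg.Agent.H27

/-- The unipotent subgroup inside the presented group. -/
noncomputable def Ug : Subgroup GY := U.map iota

theorem card_Ug : Nat.card Ug = 15625 := by
  rw [Ug, ← Nat.card_congr (Subgroup.equivMapOfInjective U iota iota_injective).toEquiv, card_U]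

theorem tab_of {s : ℕ} (hs : s ∈ [0, 1, 3, 4, 5, 8, 9]) :
    tabOK objData.pts objData.npt (xY s) (tabX s) = true :=
  List.all_eq_true.mp tabs_ok s hs

theorem indep_01 : indep 0 1 = true := by
  unfold indep pT xT mT wmatL mm one7
  decide +kernel

theorem conj_U_mem {g : GY} (h0 : g * iota (xE 0) * g⁻¹ ∈ LyG2.H4)
    (h1 : g * iota (xE 1) * g⁻¹ ∈ LyG2.H4) : g ∈ LyG2.H4 := by
  have hS : ∀ s ∈ Data.fixUS, g * iota (xE s) * g⁻¹ ∈ LyG2.H4 := by
    intro s hs
    simp only [Data.fixUS, List.mem_cons, List.not_mem_nil, or_false] at hs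
    rcases hs with rfl | rfl
    · exact h0
    · exact h1
  rcases coset_cases (S := Data.fixUS) (L := Data.fixU) (a := 0) (b := 1) (by simp [Data.fixUS])
    (by simp [Data.fixUS]) x0_mem x1_mem indep_01
    (fun s hs => tab_of (by
      simp only [Data.fixUS, List.mem_cons, List.not_mem_nil, or_false] at hs
      rcases hs with rfl | rfl <;> simp))
    fixU_list rfl hS with h | ⟨E, hE, -⟩
  · exact h
  · simp [Data.fixU] at hE

theorem norm_le : Subgroup.normalizer (Ug : Set GY) ≤ LyG2.H4 := by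
  intro g hg
  have key : ∀ s, xE s ∈ U → g * iota (xE s) * g⁻¹ ∈ LyG2.H4 := by
    intro s hs
    obtain ⟨u, -, e⟩ := (Subgroup.mem_normalizer_iff.1 hg _).1 ⟨_, hs, rfl⟩
    rw [← e]; exact iota_mem u
  exact conj_U_mem (key 0 x0_mem) (key 1 x1_mem)

/-- A regular element. -/
theorem sub_ok : (lowU (mm (xT 0) (xT 1)) &&
    allN 6 fun c => !(Nat.beq (getP 7 (mm (xT 0) (xT 1)) (8 * c + 7)) 0)) = true := by
  unfold xT mT wmatL mm one7
  decide +kernel

/-- An element normalising the unipotent subgroup is lower triangular. -/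
theorem norm_low {n : ↥PY} (hn : ∀ u ∈ U, n * u * n⁻¹ ∈ U) : LowT ((R n : M7) : Mat7) := by
  obtain ⟨m1, m2⟩ := R_mul (R_x 0).1 (R_x 0).2 (R_x 1).1 (R_x 1).2
  have h := sub_ok
  simp only [Bool.and_eq_true, allN_iff, Bool.not_eq_true'] at h
  set u := xE 0 * xE 1
  have hu : u ∈ U := U.mul_mem x0_mem x1_mem
  refine low_of_conj (N := ((R u : M7) : Mat7) - 1) (N' := ((R (n * u * n⁻¹) : M7) : Mat7) - 1)
    (U_low hu).strict (U_low (hn u hu)).strict (fun c j hcj => ?_) ?_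
  · have hne : j ≠ c := fun e => by subst e; omega
    rw [Matrix.sub_apply, Matrix.one_apply_ne hne, sub_zero, m2, den_coe m1, toMat]
    have hc : (c : ℕ) < 6 := by omega
    have hb := h.2 c hc
    have hlt := (ok_lt m1) ((j : ℕ) * 7 + c) (idx_lt j c)
    rw [show (j : ℕ) * 7 + c = 8 * c + 7 by omega] at hlt ⊢
    intro h0
    rw [ZMod.natCast_eq_zero_iff] at h0
    rw [Nat.eq_zero_of_dvd_of_lt h0 hlt, Nat.beq_refl] at hb
    exact Bool.noConfusion hb
  · rw [Matrix.mul_sub, Matrix.sub_mul, mul_one, one_mul, ← Units.val_mul, ← Units.val_mul,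
      ← map_mul, ← map_mul]
    simp

/-- The torus. -/
noncomputable def D : Subgroup ↥PY := Subgroup.closure {dE 4, dE 1}

theorem torus_ok : ((Nat.beq (dT 0) one7) && allN 16 fun i =>
    ((List.range 16).any fun j => Nat.beq (mm (dT i) (dT 4)) (dT j)) &&
    ((List.range 16).any fun j => Nat.beq (mm (dT i) (dT 1)) (dT j)) &&
    Nat.beq (dT i) (mm (pT (dT 4) (i / 4)) (pT (dT 1) (i % 4))) &&
    Nat.beq (pT (dT i) 4) one7 &&
    (allN 16 fun j => Nat.beq i j || !(Nat.beq (dT i) (dT j))) &&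
    ((List.range 5).any fun a => Nat.beq (mm (dT i) (xT 0)) (mm (pT (xT 0) a) (dT i))) &&
    ((List.range 5).any fun a => Nat.beq (mm (dT i) (xT 1)) (mm (pT (xT 1) a) (dT i)))) = true := by
  unfold pT dT xT mT wmatL mm one7
  decide +kernel

theorem dE_zero : dE 0 = 1 := by
  have h := torus_ok
  simp only [Bool.and_eq_true, Nat.beq_eq] at h
  exact R_injective (by rw [(R_d 0).2, h.1, map_one]; exact den_one)

theorem D_mem_iff {n : ↥PY} : n ∈ D ↔ ∃ i < 16, n = dE i := by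
  have h := torus_ok
  simp only [Bool.and_eq_true, Nat.beq_eq, allN_iff, List.any_eq_true, List.mem_range] at h
  constructor
  · intro hn
    have hs : D.toSubmonoid = Submonoid.closure ({dE 4, dE 1} : Set ↥PY) :=
      Subgroup.closure_toSubmonoid_of_finite
    rw [← Subgroup.mem_toSubmonoid, hs] at hn
    induction hn using Submonoid.closure_induction_right with
    | one => exact ⟨0, by norm_num, dE_zero.symm⟩
    | mul_right m _ y hy ih =>
      obtain ⟨i, hi, rfl⟩ := ih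
      obtain ⟨⟨⟨⟨⟨⟨⟨j, hj, e4⟩, ⟨j', hj', e1⟩⟩, -⟩, -⟩, -⟩, -⟩, -⟩ := h.2 i hi
      rcases hy with rfl | rfl
      · exact ⟨j, hj, eq_of_R (R_mul (R_d i).1 (R_d i).2 (R_d 4).1 (R_d 4).2).2 (R_d j).2 e4⟩
      · exact ⟨j', hj', eq_of_R (R_mul (R_d i).1 (R_d i).2 (R_d 1).1 (R_d 1).2).2 (R_d j').2 e1⟩
  · rintro ⟨i, hi, rfl⟩
    obtain ⟨⟨⟨⟨⟨-, e⟩, -⟩, -⟩, -⟩, -⟩ := h.2 i hi
    obtain ⟨p1, p2⟩ := R_pow (R_d 4).1 (R_d 4).2 (i / 4)
    obtain ⟨q1, q2⟩ := R_pow (R_d 1).1 (R_d 1).2 (i % 4)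
    rw [eq_of_R (R_d i).2 (R_mul p1 p2 q1 q2).2 e]
    exact D.mul_mem (D.pow_mem (Subgroup.subset_closure (Or.inl rfl)) _)
      (D.pow_mem (Subgroup.subset_closure (Or.inr rfl)) _)

theorem card_D : Nat.card D = 16 := by
  have hm : ∀ i : Fin 16, dE i ∈ D := fun i => D_mem_iff.2 ⟨i, i.2, rfl⟩
  have hb : Function.Bijective (fun i : Fin 16 => (⟨dE i, hm i⟩ : D)) := by
    refine ⟨fun i j e => ?_, fun ⟨n, hn⟩ => ?_⟩
    · by_contra hij
      have h := torus_ok
      simp only [Bool.and_eq_true, allN_iff, Bool.or_eq_true, Bool.not_eq_true'] at h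
      obtain ⟨⟨⟨-, hd⟩, -⟩, -⟩ := h.2 i i.2
      refine ne_of_R (R_d i).1 (R_d i).2 (R_d j).1 (R_d j).2 (fun he => ?_) (Subtype.ext_iff.1 e)
      have := (hd j j.2).resolve_left (fun hb => hij (Fin.ext (Nat.eq_of_beq_eq_true hb)))
      rw [he, Nat.beq_refl] at this
      exact Bool.noConfusion this
    · obtain ⟨i, hi, rfl⟩ := D_mem_iff.1 hn
      exact ⟨⟨i, hi⟩, rfl⟩
  rw [← Nat.card_congr (Equiv.ofBijective _ hb), Nat.card_fin]

theorem D_pow {d : ↥PY} (hd : d ∈ D) : d ^ 4 = 1 := by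
  obtain ⟨i, hi, rfl⟩ := D_mem_iff.1 hd
  have h := torus_ok
  simp only [Bool.and_eq_true, allN_iff, Nat.beq_eq] at h
  obtain ⟨⟨⟨⟨-, e⟩, -⟩, -⟩, -⟩ := h.2 i hi
  exact R_injective (by rw [(R_pow (R_d i).1 (R_d i).2 4).2, e, map_one]; exact den_one)

theorem D_norm {d : ↥PY} (hd : d ∈ D) {u : ↥PY} (hu : u ∈ U) : d * u * d⁻¹ ∈ U := by
  obtain ⟨i, hi, rfl⟩ := D_mem_iff.1 hd
  have h := torus_ok
  simp only [Bool.and_eq_true, allN_iff, Nat.beq_eq, List.any_eq_true, List.mem_range] at h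
  obtain ⟨⟨-, a, -, ea⟩, b, -, eb⟩ := h.2 i hi
  have conj : ∀ s a, mm (dT i) (xT s) = mm (pT (xT s) a) (dT i) →
      dE i * xE s * (dE i)⁻¹ = xE s ^ a := fun s a e => by
    rw [mul_inv_eq_iff_eq_mul]
    obtain ⟨p1, p2⟩ := R_pow (R_x s).1 (R_x s).2 a
    exact eq_of_R (R_mul (R_d i).1 (R_d i).2 (R_x s).1 (R_x s).2).2
      (R_mul p1 p2 (R_d i).1 (R_d i).2).2 e
  have hle : U ≤ U.comap (MulAut.conj (dE i)).toMonoidHom := by
    refine (Subgroup.closure_le _).2 ?_
    rintro _ (rfl | rfl)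
    · show dE i * xE 0 * (dE i)⁻¹ ∈ U
      rw [conj 0 a ea]; exact U.pow_mem x0_mem _
    · show dE i * xE 1 * (dE i)⁻¹ ∈ U
      rw [conj 1 b eb]; exact U.pow_mem x1_mem _
  exact hle hu

/-! ### Two-subgroups of the normaliser -/

theorem diag_ok : (Nat.beq (Data.diag0.getD 0 0) (dT 4) && Nat.beq (Data.diag0.getD 1 0) (dT 1) &&
    Nat.beq Data.diag0.length 2 && Nat.beq Data.out0.length 16 &&
    allN 16 fun i => Nat.beq (Data.out0.getD i 0) (dT i)) = true := by
  unfold dT mT wmatL mm one7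
  decide +kernel

theorem cov0 : covOK Data.diag0 false Data.lev0 = true := by decide +kernel

theorem run0 : search Data.mons Data.com0 Data.out0 Data.lev0 [] 0 = true := by decide +kernel

theorem cent_D {n : ↥PY} (h4 : Commute (dE 4) n) (h1 : Commute (dE 1) n) : n ∈ D := by
  have h := diag_ok
  simp only [Bool.and_eq_true, Nat.beq_eq, allN_iff] at h
  obtain ⟨⟨⟨⟨e4, e1⟩, hlen⟩, hlo⟩, hout⟩ := h
  have hmem := search_mem cov0 run0 (m := n) (fun d hd => ?_) (fun g hg => ?_)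
    (fun hu => Bool.noConfusion hu)
  · obtain ⟨i, hi, e⟩ := List.getElem_of_mem hmem
    rw [← List.getD_eq_getElem Data.out0 0 hi, hout i (by omega)] at e
    exact D_mem_iff.2 ⟨i, by omega, R_injective ((eq_of_enc (R_d i).1 e.symm).trans (R_d i).2.symm)⟩
  · obtain ⟨i, hi, e⟩ := List.getElem_of_mem hd
    rw [← List.getD_eq_getElem Data.diag0 0 hi] at e
    rcases (show i = 0 ∨ i = 1 by omega) with rfl | rfl
    · exact ⟨dE 4, by rw [← e, e4, (R_d 4).2, den_coe (R_d 4).1], h4⟩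
    · exact ⟨dE 1, by rw [← e, e1, (R_d 1).2, den_coe (R_d 1).1], h1⟩
  · simp [Data.com0] at hg

/-- A two-group containing the torus and normalising the unipotent subgroup is the torus. -/
theorem two_le {Q : Subgroup ↥PY} (hQ : IsPGroup 2 Q) (hD : D ≤ Q)
    (hn : ∀ q ∈ Q, ∀ u ∈ U, q * u * q⁻¹ ∈ U) : Q ≤ D := by
  have hlow : ∀ q ∈ Q, LowT ((R q : M7) : Mat7) := fun q hq => norm_low (hn q hq)
  have hone : ∀ q ∈ Q, ∀ i, ((R q : M7) : Mat7) i i * ((R q⁻¹ : M7) : Mat7) i i = 1 := by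
    intro q hq i
    rw [← (hlow q hq).mul_diag (hlow _ (Q.inv_mem hq)), ← Units.val_mul, ← map_mul, mul_inv_cancel,
      map_one, Units.val_one, Matrix.one_apply_eq]
  have comm : ∀ a ∈ Q, ∀ b ∈ Q, Commute a b := by
    intro a ha b hb
    set c := a * b * a⁻¹ * b⁻¹ with hc
    have hcQ : c ∈ Q := Q.mul_mem (Q.mul_mem (Q.mul_mem ha hb) (Q.inv_mem ha)) (Q.inv_mem hb)
    have hU : LowU ((R c : M7) : Mat7) := by
      refine ⟨hlow c hcQ, fun i => ?_⟩
      have l1 := (hlow a ha).mul (hlow b hb)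
      have l2 := l1.mul (hlow _ (Q.inv_mem ha))
      rw [hc, map_mul, map_mul, map_mul, Units.val_mul, Units.val_mul, Units.val_mul,
        l2.mul_diag (hlow _ (Q.inv_mem hb)), l1.mul_diag (hlow _ (Q.inv_mem ha)),
        (hlow a ha).mul_diag (hlow b hb)]
      have e1 := hone a ha i
      have e2 := hone b hb i
      linear_combination (((R b : M7) : Mat7) i i * ((R b⁻¹ : M7) : Mat7) i i) * e1 + e2
    have h25 : c ^ 25 = 1 := R_injective (Units.ext (by
      rw [map_pow, map_one, Units.val_pow_eq_pow_val, Units.val_one, hU.pow25]))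
    obtain ⟨k, hk⟩ := hQ ⟨c, hcQ⟩
    have hk' : c ^ 2 ^ k = 1 := by simpa using congrArg Subtype.val hk
    have hc1 : c = 1 := by
      have hg : Nat.gcd 25 (2 ^ k) = 1 := Nat.Coprime.pow_right k (by norm_num : Nat.Coprime 25 2)
      rw [← pow_one c, ← hg]
      exact pow_gcd_eq_one.2 ⟨h25, hk'⟩
    show a * b = b * a
    rw [hc, mul_inv_eq_one, mul_inv_eq_iff_eq_mul] at hc1
    exact hc1
  intro q hq
  exact cent_D (comm _ (hD (D_mem_iff.2 ⟨4, by norm_num, rfl⟩)) q hq)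
    (comm _ (hD (D_mem_iff.2 ⟨1, by norm_num, rfl⟩)) q hq)

/-! ### Root subgroups -/

/-- The torus element centralising a root subgroup. -/
noncomputable def eE (k : ℕ) : ↥PY := dE (Data.eIdx.getD k 0)

/-- The searches for the root subgroups. -/
def rootDiag : ℕ → List ℕ
  | 0 => Data.diag3
  | 1 => Data.diag4
  | 2 => Data.diag5
  | 3 => Data.diag6
  | 4 => Data.diag7
  | _ => Data.diag8

/-- The levels of these searches. -/
def rootLev : ℕ → List Lev
  | 0 => Data.lev3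
  | 1 => Data.lev4
  | 2 => Data.lev5
  | 3 => Data.lev6
  | 4 => Data.lev7
  | _ => Data.lev8

/-- Their results. -/
def rootOut : ℕ → List ℕ
  | 0 => Data.out3
  | 1 => Data.out4
  | 2 => Data.out5
  | 3 => Data.out6
  | 4 => Data.out7
  | _ => Data.out8

theorem root_ok : allN 6 (fun k => covOK (rootDiag k) true (rootLev k) &&
    search Data.mons [] (rootOut k) (rootLev k) [] 0 &&
    Nat.beq (rootDiag k).length 1 &&
    Nat.beq ((rootDiag k).getD 0 0) (dT (Data.eIdx.getD k 0)) &&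
    Nat.beq (rootOut k).length 5 &&
    allN 5 (fun i => Nat.beq ((rootOut k).getD i 0) (pT (xT k) i))) = true := by
  unfold pT dT xT mT wmatL mm one7
  decide +kernel

theorem root_cent {k : ℕ} (hk : k < 6) {u : ↥PY} (hu : u ∈ U) (hc : Commute (eE k) u) :
    ∃ i < 5, u = xE k ^ i := by
  have h := (allN_iff _ _).1 root_ok k hk
  simp only [Bool.and_eq_true, Nat.beq_eq, allN_iff] at h
  obtain ⟨⟨⟨⟨⟨hcov, hrun⟩, hl⟩, hd⟩, hlo⟩, hout⟩ := h
  have hmem := search_mem hcov hrun (m := u) (fun d hd' => ?_)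
    (fun g hg => absurd hg List.not_mem_nil) (fun _ => U_low hu)
  · obtain ⟨i, hi, e⟩ := List.getElem_of_mem hmem
    rw [← List.getD_eq_getElem (rootOut k) 0 hi, hout i (by omega)] at e
    obtain ⟨p1, p2⟩ := R_pow (R_x k).1 (R_x k).2 i
    exact ⟨i, by omega, R_injective ((eq_of_enc p1 e.symm).trans p2.symm)⟩
  · obtain ⟨i, hi, e⟩ := List.getElem_of_mem hd'
    rw [← List.getD_eq_getElem (rootDiag k) 0 hi] at e
    obtain rfl : i = 0 := by omega
    exact ⟨eE k, by rw [← e, hd, eE, (R_d _).2, den_coe (R_d _).1], hc⟩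

end Cfsg.Agent.H5.LyOut
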