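import Cfsg.Agent.Compute.MatRep

/-!
A checked search for all `7 × 7` matrices over `ZMod 5` with prescribed support, commuting with given
matrices and preserving a trilinear form given by a list of monomials.
-/

set_option autoImplicit false
set_option maxRecDepth 10000

namespace Cfsg.Agent.H5.LyOut

open Cfsg.Agent.Compute

/-- A monomial `(i, j, k, v)`. -/
abbrev Mon : Type := ℕ × ℕ × ℕ × ℕ

abbrev Mat7 : Type := Matrix (Fin 7) (Fin 7) (ZMod 5)

/-- Reduction of an index. -/
def ix (n : ℕ) : Fin 7 := Fin.ofNat 7 n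

theorem ix_val (n : ℕ) : ((ix n : Fin 7) : ℕ) = n % 7 := rfl

theorem ix_eq (i : Fin 7) : ix (i : ℕ) = i := by
  apply Fin.ext
  rw [ix_val, Nat.mod_eq_of_lt i.2]

/-- The value of the form on three rows. -/
noncomputable def phi (L : List Mon) (M : Mat7) (a b c : Fin 7) : ZMod 5 :=
  (L.map fun t => (t.2.2.2 : ZMod 5) * M a (ix t.1) * M b (ix t.2.1) * M c (ix t.2.2.1)).sum

theorem phi_mul (L : List Mon) (M N : Mat7) (a b c : Fin 7) :
    phi L (M * N) a b c = ∑ p, ∑ q, ∑ r, M a p * M b q * M c r * phi L N p q r := by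
  induction L with
  | nil => simp [phi]
  | cons t T ih =>
    simp only [phi, List.map_cons, List.sum_cons] at ih ⊢
    rw [ih]
    simp only [mul_add, Finset.sum_add_distrib]
    congr 1
    simp only [Matrix.mul_apply, Finset.mul_sum, Finset.sum_mul]
    rw [Finset.sum_comm]
    refine (Finset.sum_congr rfl fun p _ => Finset.sum_comm).trans ?_
    rw [Finset.sum_comm]
    refine Finset.sum_congr rfl fun p _ => Finset.sum_congr rfl fun q _ =>
      Finset.sum_congr rfl fun r _ => ?_
    ring

/-- The matrices preserving the form. -/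
def Inv (L : List Mon) : Submonoid Mat7 where
  carrier := {M | ∀ a b c, phi L M a b c = phi L 1 a b c}
  one_mem' := fun _ _ _ => rfl
  mul_mem' := by
    intro M N hM hN a b c
    rw [phi_mul]
    simp only [hN _ _ _]
    rw [← phi_mul, mul_one]
    exact hM a b c

/-- The value of the form on three rows of a packed matrix. -/
noncomputable def fv (L : List Mon) (S a b c : ℕ) : ℕ :=
  Nat.mod (List.rec (motive := fun _ => ℕ) 0 (fun t _ acc =>
    cond (Nat.beq (getP 7 S (Nat.add (Nat.mul a 7) (Nat.mod t.1 7))) 0) acc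
    (Nat.add (Nat.mul (Nat.mul (Nat.mul t.2.2.2 (getP 7 S (Nat.add (Nat.mul a 7) (Nat.mod t.1 7))))
      (getP 7 S (Nat.add (Nat.mul b 7) (Nat.mod t.2.1 7))))
      (getP 7 S (Nat.add (Nat.mul c 7) (Nat.mod t.2.2.1 7)))) acc)) L) 5

theorem fv_cast (L : List Mon) (S : ℕ) (a b c : Fin 7) :
    (fv L S a b c : ZMod 5) = phi L (toMat 7 7 5 S) a b c := by
  unfold fv
  show (((_ : ℕ) % 5 : ℕ) : ZMod 5) = _
  rw [ZMod.natCast_mod]
  induction L with
  | nil => simp [phi]
  | cons t T ih =>
    simp only [phi, List.map_cons, List.sum_cons, Nat.add_eq, Nat.mul_eq] at ih ⊢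
    cases hb : Nat.beq (getP 7 S ((a : ℕ) * 7 + Nat.mod t.1 7)) 0
    · rw [cond_false, Nat.cast_add, ih, Nat.cast_mul, Nat.cast_mul, Nat.cast_mul]
      rfl
    · rw [cond_true, ih]
      have h0 : toMat 7 7 5 S a (ix t.1) = 0 := by
        show ((getP 7 S ((a : ℕ) * 7 + Nat.mod t.1 7) : ℕ) : ZMod 5) = 0
        rw [Nat.eq_of_beq_eq_true hb, Nat.cast_zero]
      rw [h0]; simp

/-- Membership in a list of numbers. -/
noncomputable def memN (x : ℕ) (l : List ℕ) : Bool :=
  List.rec false (fun a _ ih => Nat.beq x a || ih) l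

theorem memN_iff (x : ℕ) (l : List ℕ) : memN x l = true ↔ x ∈ l := by
  induction l with
  | nil => simp [memN]
  | cons a t ih =>
    show (Nat.beq x a || memN x t) = true ↔ _
    rw [Bool.or_eq_true, ih, Nat.beq_eq, List.mem_cons]

/-- One level: a row, its seven prescriptions (`5` meaning free), commutation tests, triples. -/
structure Lev where
  r : ℕ
  cols : List ℕ
  coms : List (ℕ × ℕ)
  tris : List (ℕ × ℕ × ℕ)

/-- One commutation test, made only once its rows are present. -/
noncomputable def comTest (gens d : List ℕ) (S : ℕ) (t : ℕ × ℕ) : Bool :=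
  cond (Nat.blt t.1 gens.length && Nat.blt t.2 7 && memN t.2 d &&
      allN 7 (fun k => Nat.beq (getP 7 (gens.getD t.1 0) (Nat.add (Nat.mul t.2 7) k)) 0 || memN k d))
    (allN 7 fun j => Nat.beq
      (Nat.mod (sumN 7 fun k => Nat.mul (getP 7 (gens.getD t.1 0) (Nat.add (Nat.mul t.2 7) k))
        (getP 7 S (Nat.add (Nat.mul k 7) j))) 5)
      (Nat.mod (sumN 7 fun k => Nat.mul (getP 7 S (Nat.add (Nat.mul t.2 7) k))
        (getP 7 (gens.getD t.1 0) (Nat.add (Nat.mul k 7) j))) 5)) true

/-- One test of the form, made only once its rows are present. -/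
noncomputable def triTest (L : List Mon) (d : List ℕ) (S : ℕ) (t : ℕ × ℕ × ℕ) : Bool :=
  cond (Nat.blt t.1 7 && Nat.blt t.2.1 7 && Nat.blt t.2.2 7 &&
      memN t.1 d && memN t.2.1 d && memN t.2.2 d)
    (Nat.beq (fv L S t.1 t.2.1 t.2.2) (fv L (matOps 7 7 5).one t.1 t.2.1 t.2.2)) true

/-- All rows with the given prescriptions. -/
noncomputable def rowEnum (cols : List ℕ) : ℕ → ℕ → (ℕ → Bool) → Bool :=
  List.rec (fun _ acc k => k acc)
    (fun v _ ih c acc k => cond (Nat.beq v 5)
      (allN 5 fun w => ih (Nat.add c 1) (Nat.add acc (Nat.shiftLeft w (Nat.mul 7 c))) k)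
      (ih (Nat.add c 1) (Nat.add acc (Nat.shiftLeft v (Nat.mul 7 c))) k)) cols

/-- The search. -/
noncomputable def search (L : List Mon) (gens out : List ℕ) (ls : List Lev) : List ℕ → ℕ → Bool :=
  List.rec (fun d S => allN 7 (fun k => memN k d) && memN S out)
    (fun l _ ih d S => Nat.blt l.r 7 && !memN l.r d && Nat.beq l.cols.length 7 &&
      rowEnum l.cols 0 0 fun row =>
        let S' := Nat.add S (Nat.shiftLeft row (Nat.mul 49 l.r))
        !(List.all l.coms (comTest gens (l.r :: d) S') &&
          List.all l.tris (triTest L (l.r :: d) S')) || ih (l.r :: d) S') ls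

theorem rowEnum_sound (e : ℕ → ℕ) (he : ∀ p, e p < 5) (k : ℕ → Bool) :
    ∀ (cols : List ℕ) (c : ℕ),
      (∀ i < cols.length, cols.getD i 0 = 5 ∨ e (c + i) = cols.getD i 0) →
      rowEnum cols c (packP 7 e c) k = true → k (packP 7 e (c + cols.length)) = true
  | [], c, _, h => by simpa [rowEnum] using h
  | v :: t, c, hc, h => by
    have hstep : packP 7 e (c + 1) = packP 7 e c + (e c <<< (7 * c)) := rfl
    have key : rowEnum t (c + 1) (packP 7 e (c + 1)) k = true := by
      change cond (Nat.beq v 5) _ _ = true at h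
      rw [hstep]
      cases hb : Nat.beq v 5
      · rw [hb, cond_false] at h
        have := hc 0 (by simp)
        rcases this with h5 | h5
        · simp only [List.getD_cons_zero] at h5
          subst h5
          simp at hb
        · rw [Nat.add_zero] at h5
          simp only [List.getD_cons_zero] at h5
          rw [h5]
          exact h
      · rw [hb, cond_true, allN_iff] at h
        exact h (e c) (he c)
    have := rowEnum_sound e he k t (c + 1) (fun i hi => by
      have := hc (i + 1) (by simp; omega)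
      simpa [show c + (i + 1) = c + 1 + i by omega] using this) key
    simpa [show c + (t.length + 1) = c + 1 + t.length by omega] using this

/-- The entries of the rows present. -/
noncomputable def part (e : ℕ → ℕ) (d : List ℕ) (p : ℕ) : ℕ :=
  cond (memN (p / 7) d) (e p) 0

theorem packP_nil (f : ℕ → ℕ) : packP 7 f 0 = 0 := rfl

attribute [local irreducible] packP getP

theorem packP_add (f g : ℕ → ℕ) : ∀ n,
    packP 7 (fun i => f i + g i) n = packP 7 f n + packP 7 g n := by
  intro n
  induction n with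
  | zero => simp only [packP_nil]
  | succ k ih => simp only [packP_succ]; rw [ih]; ring

theorem packP_zero : ∀ n, packP 7 (fun _ => 0) n = 0 := by
  intro n
  induction n with
  | zero => rw [packP_nil]
  | succ k ih => rw [packP_succ, ih]; simp

theorem part_add (e : ℕ → ℕ) {d : List ℕ} {r : ℕ} (hr : r < 7) (hd : r ∉ d) :
    packP 7 (part e (r :: d)) 49 =
      packP 7 (part e d) 49 + packP 7 (fun i => e (7 * r + i)) 7 <<< (49 * r) := by
  have hsplit : packP 7 (part e (r :: d)) 49 =
      packP 7 (part e d) 49 + packP 7 (fun p => cond (Nat.beq (p / 7) r) (e p) 0) 49 := by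
    rw [← packP_add]
    refine packP_congr 7 49 fun p _ => ?_
    unfold part
    cases hb : Nat.beq (p / 7) r
    · have : memN (p / 7) (r :: d) = memN (p / 7) d := by
        show (Nat.beq (p / 7) r || memN (p / 7) d) = _
        rw [hb, Bool.false_or]
      rw [this]; simp
    · have e1 : memN (p / 7) (r :: d) = true := by
        show (Nat.beq (p / 7) r || memN (p / 7) d) = _
        rw [hb, Bool.true_or]
      have e2 : memN (p / 7) d = false := by
        rw [Bool.eq_false_iff]
        intro h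
        rw [memN_iff, Nat.eq_of_beq_eq_true hb] at h
        exact hd h
      rw [e1, e2]; simp
  rw [hsplit]
  refine congrArg (packP 7 (part e d) 49 + ·) ?_
  generalize h49 : packP 7 (fun i => e (7 * r + i)) 7 = R
  rw [show (49 : ℕ) = 7 * r + (7 + (42 - 7 * r)) by omega, packP_append, packP_append,
    Nat.shiftLeft_eq]
  rw [packP_congr 7 (7 * r) (g := fun _ => 0) (fun p hp => ?_), packP_zero,
    packP_congr 7 (42 - 7 * r) (g := fun _ => 0) (fun p _ => ?_), packP_zero,
    packP_congr 7 7 (g := fun i => e (7 * r + i)) (fun p hp => ?_), h49]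
  · rw [show (7 * r + (7 + (42 - 7 * r))) * r = 7 * (7 * r) by
      rw [show 7 * r + (7 + (42 - 7 * r)) = 49 by omega]; ring]
    simp
  · rw [show Nat.beq ((7 * r + p) / 7) r = true from by rw [Nat.beq_eq]; omega]
    rfl
  · rw [show Nat.beq ((7 * r + (7 + p)) / 7) r = false from ?_]
    · rfl
    · rw [Bool.eq_false_iff]
      intro h
      have := Nat.eq_of_beq_eq_true h
      omega
  · rw [show Nat.beq (p / 7) r = false from ?_]
    · rfl
    · rw [Bool.eq_false_iff]
      intro h
      have := Nat.eq_of_beq_eq_true h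
      omega

theorem getP_part (e : ℕ → ℕ) (he : ∀ p, e p < 5) (d : List ℕ) {k j : ℕ} (hk : k < 7)
    (hj : j < 7) :
    getP 7 (packP 7 (part e d) 49) (k * 7 + j) = cond (memN k d) (e (k * 7 + j)) 0 := by
  rw [getP_packP 7 _ 49 ?_ _ (by omega)]
  · show cond (memN ((k * 7 + j) / 7) d) _ _ = _
    rw [show (k * 7 + j) / 7 = k by omega]
  · intro i _
    unfold part
    have := he i
    cases memN (i / 7) d <;> simp <;> omega

theorem sumN_congr {n : ℕ} {f g : ℕ → ℕ} (h : ∀ i < n, f i = g i) : sumN n f = sumN n g := by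
  rw [sumN_eq, sumN_eq]
  exact Finset.sum_congr rfl fun i _ => h i i.2

/-- What the search proves. -/
theorem search_sound {L : List Mon} {gens out : List ℕ} {M : Mat7} (hinv : M ∈ Inv L)
    (hcom : ∀ g ∈ gens, toMat 7 7 5 g * M = M * toMat 7 7 5 g) (e : ℕ → ℕ) (he : ∀ p, e p < 5)
    (hM : ∀ i j : Fin 7, M i j = (e (i * 7 + j) : ZMod 5)) :
    ∀ (ls : List Lev) (d : List ℕ),
      (∀ l ∈ ls, ∀ c < 7, l.cols.getD c 0 = 5 ∨ e (l.r * 7 + c) = l.cols.getD c 0) →
      search L gens out ls d (packP 7 (part e d) 49) = true → packP 7 e 49 ∈ out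
  | [], d, _, h => by
    change (allN 7 (fun k => memN k d) && memN _ out) = true at h
    rw [Bool.and_eq_true, allN_iff, memN_iff] at h
    have : packP 7 (part e d) 49 = packP 7 e 49 := by
      refine packP_congr 7 49 fun p hp => ?_
      show cond _ _ _ = _
      rw [h.1 (p / 7) (by omega)]; rfl
    rw [← this]
    exact h.2
  | l :: t, d, hcols, h => by
    change (Nat.blt l.r 7 && !memN l.r d && Nat.beq l.cols.length 7 &&
      rowEnum l.cols 0 0 _) = true at h
    simp only [Bool.and_eq_true, Nat.blt_eq, Bool.not_eq_true', Nat.beq_eq] at h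
    obtain ⟨⟨⟨hr, hnd⟩, hlen⟩, hrow⟩ := h
    have hnd' : l.r ∉ d := fun hh => by rw [(memN_iff _ _).2 hh] at hnd; exact Bool.noConfusion hnd
    have hk := rowEnum_sound (fun i => e (7 * l.r + i)) (fun p => he _) _ l.cols 0 (fun c hc => by
      have := hcols l List.mem_cons_self c (by omega)
      rwa [Nat.zero_add, Nat.mul_comm 7 l.r]) (by rw [packP_nil]; exact hrow)
    rw [Nat.zero_add, hlen] at hk
    simp only [Nat.add_eq, Nat.mul_eq] at hk
    rw [show Nat.shiftLeft (packP 7 (fun i => e (7 * l.r + i)) 7) (49 * l.r) =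
      packP 7 (fun i => e (7 * l.r + i)) 7 <<< (49 * l.r) from rfl, ← part_add e hr hnd'] at hk
    rw [Bool.or_eq_true, Bool.not_eq_true'] at hk
    refine search_sound hinv hcom e he hM t (l.r :: d)
      (fun l' hl' => hcols l' (List.mem_cons_of_mem _ hl')) (hk.resolve_left ?_)
    set d' := l.r :: d
    rw [Bool.not_eq_false, Bool.and_eq_true, List.all_eq_true, List.all_eq_true]
    have hent : ∀ k j : Fin 7, memN k d' = true →
        (getP 7 (packP 7 (part e d') 49) (k * 7 + j) : ZMod 5) = M k j := by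
      intro k j hk'
      rw [getP_part e he d' k.2 j.2, hk', cond_true, hM]
    refine ⟨fun g hg => ?_, fun s _ => ?_⟩
    · unfold comTest
      cases hb : (Nat.blt g.1 gens.length && Nat.blt g.2 7 && memN g.2 d' && allN 7 fun k =>
          Nat.beq (getP 7 (gens.getD g.1 0) (Nat.add (Nat.mul g.2 7) k)) 0 || memN k d')
      · rfl
      simp only [cond_true, Bool.and_eq_true, Nat.blt_eq, allN_iff, Bool.or_eq_true,
        Nat.beq_eq] at hb ⊢
      obtain ⟨⟨⟨hg1, hg2⟩, hgd⟩, hsupp⟩ := hb
      have hG := hcom _ (show gens.getD g.1 0 ∈ gens by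
        rw [List.getD_eq_getElem _ _ hg1]; exact List.getElem_mem hg1)
      set G := gens.getD g.1 0
      intro j hj
      have e1 := congrFun (congrFun hG ⟨g.2, hg2⟩) ⟨j, hj⟩
      simp only [Matrix.mul_apply] at e1
      refine (ZMod.natCast_eq_natCast_iff' _ _ 5).1 ?_
      rw [sumN_eq, sumN_eq, Nat.cast_sum, Nat.cast_sum]
      refine Eq.trans (Finset.sum_congr rfl fun k _ => ?_)
        (e1.trans (Finset.sum_congr rfl fun k _ => ?_))
      · simp only [Nat.mul_eq, Nat.add_eq, Nat.cast_mul, toMat]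
        rcases hsupp k k.2 with h0 | h0
        · simp only [Nat.mul_eq, Nat.add_eq] at h0
          rw [h0]; simp
        · rw [← hent k ⟨j, hj⟩ h0]
      · simp only [Nat.mul_eq, Nat.add_eq, Nat.cast_mul, toMat]
        rw [← hent ⟨g.2, hg2⟩ k hgd]
    · unfold triTest
      cases hb : (Nat.blt s.1 7 && Nat.blt s.2.1 7 && Nat.blt s.2.2 7 &&
          memN s.1 d' && memN s.2.1 d' && memN s.2.2 d')
      · rfl
      simp only [cond_true, Bool.and_eq_true, Nat.blt_eq] at hb ⊢
      obtain ⟨⟨⟨⟨⟨a1, a2⟩, a3⟩, b1⟩, b2⟩, b3⟩ := hb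
      rw [Nat.beq_eq]
      have lt1 : ∀ S a b c, fv L S a b c < 5 := fun S a b c => Nat.mod_lt _ (by norm_num)
      rw [← Nat.mod_eq_of_lt (lt1 (packP 7 (part e d') 49) s.1 s.2.1 s.2.2),
        ← Nat.mod_eq_of_lt (lt1 (matOps 7 7 5).one s.1 s.2.1 s.2.2)]
      refine (ZMod.natCast_eq_natCast_iff' _ _ 5).1 ?_
      have hone : toMat 7 7 5 (matOps 7 7 5).one = 1 :=
        (matCanon_one (by norm_num) (by norm_num)).2
      rw [show s.1 = ((⟨s.1, a1⟩ : Fin 7) : ℕ) from rfl,
        show s.2.1 = ((⟨s.2.1, a2⟩ : Fin 7) : ℕ) from rfl,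
        show s.2.2 = ((⟨s.2.2, a3⟩ : Fin 7) : ℕ) from rfl, fv_cast, fv_cast, hone,
        ← hinv]
      unfold phi
      refine congrArg List.sum (List.map_congr_left fun t _ => ?_)
      simp only [toMat]
      rw [← hent ⟨s.1, a1⟩ _ b1, ← hent ⟨s.2.1, a2⟩ _ b2, ← hent ⟨s.2.2, a3⟩ _ b3]

end Cfsg.Agent.H5.LyOut
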